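import Cfsg.Agent.QTKE.SolUniq.Layer
import Cfsg.Agent.QTKE.Uniq.Main


/-!
Members of `Ξ*(G, T)` give uniqueness subgroups.
-/

set_option autoImplicit false
set_option linter.unusedSectionVars false
set_option linter.style.haveILetI false

namespace Cfsg.Lib.QTSolUniq

open Subgroup Cfsg.Lib.Components
open Cfsg.Lib.CoprimeLayer (perfCore perfCore_le perfCore_perfect le_perfCore perfect_map
  exists_perfect_cover' normalizer_le_normalizer_perfCore eq_bot_of_perfect_solvable)
open Cfsg.Lib.QTUniq (MinPerf calC_iff minPerf_subgroupOf exists_twoLocal_ge pCore_ne_bot_of_twoLocal rank_le)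
open scoped commutatorElement

universe u

/-- quotients by normal subgroups of order prime to `p` keep `p`-rank two -/
theorem pRankLE_quotient {G : Type u} [Group G] [Finite G] {p : ℕ} [Fact p.Prime] (N : Subgroup G) [N.Normal] (hN : (Nat.card N).Coprime p)
    (hr : Cfsg.PRankLE p 2 G) : Cfsg.PRankLE p 2 (G ⧸ N) := by
  intro A hc he
  have hA : IsPGroup p A := fun a => ⟨1, Subtype.ext (by
    rw [pow_one]; exact he a a.2)⟩
  obtain ⟨Q, hQ⟩ := hA.exists_le_sylow
  obtain ⟨P₀⟩ : Nonempty (Sylow p G) := inferInstance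
  obtain ⟨g, hg⟩ := MulAction.exists_smul_eq (G ⧸ N) (P₀.mapSurjective (QuotientGroup.mk'_surjective N)) Q
  obtain ⟨g, rfl⟩ := QuotientGroup.mk_surjective g
  set P := g • P₀
  set q := QuotientGroup.mk' N
  have hAq : A ≤ (P : Subgroup G).map q := by
    refine hQ.trans (le_of_eq ?_)
    rw [← hg]
    show (((P₀ : Subgroup G).map q).map (MulAut.conj (g : G ⧸ N)).toMonoidHom) =
      ((P₀ : Subgroup G).map (MulAut.conj g).toMonoidHom).map q
    rw [Subgroup.map_map, Subgroup.map_map]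
    congr 1
  have hinj : ∀ a ∈ (P : Subgroup G), ∀ b ∈ (P : Subgroup G), q a = q b → a = b := by
    intro a ha b hb h
    have h1 : a⁻¹ * b ∈ N := QuotientGroup.eq.1 h
    obtain ⟨k, hk⟩ := P.2 ⟨a⁻¹ * b, mul_mem (inv_mem ha) hb⟩
    refine inv_mul_eq_one.1 (orderOf_eq_one_iff.1 (Nat.eq_one_of_dvd_coprimes ((hN.symm).pow_left k)
      (orderOf_dvd_of_pow_eq_one (congrArg Subtype.val hk)) (Subgroup.orderOf_dvd_natCard N h1)))
  set B := A.comap q ⊓ (P : Subgroup G)
  have hBc : IsMulCommutative B := ⟨⟨fun a b => Subtype.ext (hinj _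
      (mul_mem (mem_inf.1 a.2).2 (mem_inf.1 b.2).2) _ (mul_mem (mem_inf.1 b.2).2 (mem_inf.1 a.2).2) (by
        simp only [Subgroup.coe_mul, map_mul]
        exact congrArg Subtype.val
          (hc.is_comm.comm (⟨_, (mem_inf.1 a.2).1⟩ : A) ⟨_, (mem_inf.1 b.2).1⟩)))⟩⟩
  have hBe : ∀ b ∈ B, b ^ p = 1 := fun b hb => hinj _ (pow_mem (mem_inf.1 hb).2 p) 1 (one_mem _) (by
    rw [map_pow, map_one]; exact he _ (mem_inf.1 hb).1)
  refine le_trans ?_ (hr B hBc hBe)
  refine Nat.card_le_card_of_surjective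
    (fun b : B => (⟨q b, (mem_inf.1 b.2).1⟩ : A)) fun a => ?_
  obtain ⟨x, hx, hxa⟩ := hAq a.2
  exact ⟨⟨x, mem_inf.2 ⟨show q x ∈ A from hxa ▸ a.2, hx⟩⟩, Subtype.ext hxa⟩

/-- the configuration inside an intermediate subgroup -/
theorem XData.subgroupOf {G : Type u} [Group G] {p : ℕ} {X T Φ H : Subgroup G} (D : XData p X T Φ)
    (hX : X ≤ H) (hT : T ≤ H) : XData p (X.subgroupOf H) (T.subgroupOf H) (Φ.subgroupOf H) := by
  have hmem : ∀ {A : Subgroup G} (g : H), (g : G) ∈ normalizer (A : Set G) →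
      g ∈ normalizer ((A.subgroupOf H : Subgroup H) : Set H) := fun {A} g hg =>
    mem_normalizer_iff.2 fun y => mem_normalizer_iff.1 hg (y : G)
  have hXH : ((X.subgroupOf H).map H.subtype) = X := map_subgroupOf_eq_of_le hX
  have hsup : X.subgroupOf H ⊔ T.subgroupOf H = (X ⊔ T).subgroupOf H := (subgroupOf_sup hX hT).symm
  refine ⟨fun g hg => hmem g (D.norm hg), ?_, Subgroup.comap_mono D.le, ?_, ?_, fun x hx => D.exp x hx,
    fun x hx y hy => D.comm x hx y hy, ?_, ?_⟩
  · intro x hx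
    have h : (closure {x : H | x ∈ X.subgroupOf H ∧ ∃ k, x ^ p ^ k = 1}).map H.subtype =
        closure {x : G | x ∈ X ∧ ∃ k, x ^ p ^ k = 1} := by
      rw [MonoidHom.map_closure]
      congr 1
      ext y
      constructor
      · rintro ⟨z, ⟨hz, k, hk⟩, rfl⟩
        exact ⟨hz, k, by rw [← map_pow, hk, map_one]⟩
      · rintro ⟨hy, k, hk⟩
        exact ⟨⟨y, hX hy⟩, ⟨hy, k, Subtype.ext hk⟩, rfl⟩
    obtain ⟨y, hy, e⟩ := h.ge (D.gen hx)
    rwa [← H.subtype_injective e]
  · rw [hsup]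
    exact fun g hg => hmem g (D.phi_norm hg)
  · rw [relIndex_subgroupOf hX, D.index]
  · intro N hN hNn
    have hn : X ⊔ T ≤ normalizer ((N.map H.subtype : Subgroup G) : Set G) := by
      intro g hg
      refine le_normalizer_map H.subtype ⟨⟨g, (sup_le hX hT : X ⊔ T ≤ H) hg⟩, hNn ?_, rfl⟩
      rw [hsup]
      exact hg
    rcases D.irr (N.map H.subtype) (hXH ▸ Subgroup.map_mono hN) hn with h | h
    · exact Or.inl (Subgroup.map_injective H.subtype_injective (h.trans hXH.symm))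
    · exact Or.inr fun y hy => h (mem_map_of_mem _ hy)
  · intro h
    rw [Nat.card_congr (subgroupOfEquivOfLe hX).toEquiv] at h
    exact D.small h

/-- the perfect core over a component of `H / Q` for a normal `2`-subgroup `Q` -/
theorem exists_over_component {H : Type u} [Group H] [Finite H] (Q : Subgroup H) [Q.Normal] (hQ : IsPGroup 2 Q)
    (hY : Cfsg.pCore 2 (H ⧸ Q) = ⊥) {K : Subgroup (H ⧸ Q)} (hK : Cfsg.IsComponent K) :
    ∃ L : Subgroup H, MinPerf L ∧ L.IsSubnormal ∧ L.map (QuotientGroup.mk' Q) = K ∧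
      Cfsg.IsQuasisimple (L ⧸ Cfsg.pCore 2 L) := by
  classical
  haveI : Fact (Nat.Prime 2) := ⟨Nat.prime_two⟩
  haveI := hQ.isNilpotent
  haveI : Group.IsSolvable Q := inferInstance
  set π := QuotientGroup.mk' Q with hπ
  set L := perfCore (K.comap π) with hL
  have hLsn : L.IsSubnormal := isSubnormal_of_normal_in (hK.1.comap π) (perfCore_le _)
    (le_normalizer.trans (normalizer_le_normalizer_perfCore _))
  have hLmap : L.map π = K := by
    refine le_antisymm ((Subgroup.map_mono (perfCore_le _)).trans (map_comap_le _ _)) ?_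
    obtain ⟨Z, hZ, hZm, hZp⟩ := exists_perfect_cover' π (X0 := K.comap π)
      (by rw [map_comap_eq_self_of_surjective (QuotientGroup.mk'_surjective Q)]) (comp_perfect hK)
    rw [← hZm]
    exact Subgroup.map_mono (le_perfCore hZ hZp)
  have hLne : L ≠ ⊥ := fun h => comp_ne_bot hK (by rw [← hLmap, h, Subgroup.map_bot])
  -- a perfect subgroup dying in the quotient is trivial
  have hsol : ∀ A : Subgroup H, ⁅A, A⁆ = A → A.map π = ⊥ → A = ⊥ := fun A hA h => by
    rw [Subgroup.map_eq_bot_iff, hπ, QuotientGroup.ker_mk'] at h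
    exact eq_bot_of_perfect_solvable hA h inferInstance
  have hmin : MinPerf L := by
    refine ⟨hLne, perfCore_perfect _, fun A hA hAs hAp => ?_⟩
    have hAsn : A.IsSubnormal := by
      have := isSubnormal_map_subtype hLsn hAs
      rwa [map_subgroupOf_eq_of_le hA] at this
    have hAK : A.map π ≤ K := hLmap ▸ Subgroup.map_mono hA
    rcases qs_subnormal_eq_top_or_le_center hK.2
      ((hAsn.map (QuotientGroup.mk'_surjective Q)).subgroupOf (K := K)) with h | h
    · right
      refine le_antisymm hA ?_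
      by_contra hne
      have hne' : A.subgroupOf L ≠ ⊤ := fun e => hne (subgroupOf_eq_top.1 e)
      obtain ⟨N, hN, hle, hNne⟩ := exists_proper_normal hAs hne'
      haveI := hN
      haveI : Group.IsPerfect L := Cfsg.Lib.QTUniq.isPerfect_subtype (perfCore_perfect _)
      haveI : Group.IsSolvable (Q.subgroupOf L) :=
        Group.isSolvable_of_isSolvable_injective (f := (L.subtype.comp (Q.subgroupOf L).subtype).codRestrict Q
          fun x => x.2) (fun a b e => Subtype.ext (Subtype.ext (congrArg Subtype.val e :)))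
      haveI : Group.IsSolvable ((Q.subgroupOf L).map (QuotientGroup.mk' N)) :=
        Cfsg.Lib.QTUniq.isSolvable_map _ inferInstance
      have htop : ∀ x : L ⧸ N, x ∈ (Q.subgroupOf L).map (QuotientGroup.mk' N) := by
        intro x
        obtain ⟨⟨x, hx⟩, rfl⟩ := QuotientGroup.mk_surjective x
        obtain ⟨y, hy, e⟩ := (subgroupOf_eq_top.1 h) (hLmap ▸ mem_map_of_mem π hx : π x ∈ K)
        refine ⟨⟨y, hA hy⟩⁻¹ * ⟨x, hx⟩, ?_, ?_⟩
        · show y⁻¹ * x ∈ Q
          rw [← QuotientGroup.eq_one_iff]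
          show π (y⁻¹ * x) = 1
          rw [map_mul, map_inv, e, inv_mul_cancel]
        · rw [map_mul, map_inv, show (QuotientGroup.mk' N) ⟨y, hA hy⟩ = 1 from
            (QuotientGroup.eq_one_iff _).2 (hle hy), inv_one, one_mul]
          rfl
      haveI : Group.IsSolvable (L ⧸ N) :=
        Group.isSolvable_of_surjective (f := ((Q.subgroupOf L).map (QuotientGroup.mk' N)).subtype)
          fun x => ⟨⟨x, htop x⟩, rfl⟩
      apply hNne
      refine (eq_top_iff' N).2 fun x => (QuotientGroup.eq_one_iff x).1 ?_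
      exact Cfsg.Lib.OutSol.perfect_hom_trivial (QuotientGroup.mk' N) x
    · left
      refine hsol A hAp ?_
      haveI := isMulCommutative_of_le_center h
      refine eq_bot_of_perfect_solvable (perfect_map π hAp) le_rfl (Group.isSolvable_of_comm fun a b => ?_)
      refine Subtype.ext ?_
      show (a : H ⧸ Q) * b = b * a
      have := mem_center_iff.1 (h (show (⟨b.1, hAK b.2⟩ : K) ∈ (A.map π).subgroupOf K from b.2)) ⟨a.1, hAK a.2⟩
      exact congrArg (fun z : K => (z : H ⧸ Q)) this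
  refine ⟨L, hmin, hLsn, hLmap, ?_⟩
  set g := π.subgroupMap L with hg
  have hker : g.ker = Cfsg.pCore 2 L := by
    refine le_antisymm ?_ ?_
    · haveI : g.ker.Normal := inferInstance
      refine le_pCore ?_
      have hle : g.ker ≤ Q.subgroupOf L := fun x hx => by
        have h1 : π (x : H) = 1 := congrArg Subtype.val (MonoidHom.mem_ker.1 hx)
        exact mem_subgroupOf.2 ((QuotientGroup.eq_one_iff (x : H)).1 h1)
      exact IsPGroup.to_le (hQ.comap_subtype (K := L)) hle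
    · intro x hx
      have h1 : ((Cfsg.pCore 2 L).map g).map (L.map π).subtype ≤ Cfsg.pCore 2 (H ⧸ Q) :=
        le_pCore_of_subnormal
          (isSubnormal_map_subtype (hLmap.symm ▸ hK.1)
            ((inferInstance : (Cfsg.pCore 2 L).Normal).map g (π.subgroupMap_surjective L)).isSubnormal)
          (((Cfsg.Lib.Components.isPGroup_pCore (G := L) 2).map g).map _)
      rw [hY] at h1
      exact MonoidHom.mem_ker.2 (Subtype.ext (mem_bot.1 (h1 (mem_map_of_mem _ (mem_map_of_mem g hx)))))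
  refine (isQuasisimple_congr ?_).2 hK.2
  exact ((QuotientGroup.quotientMulEquivOfEq hker.symm).trans
    (QuotientGroup.quotientKerEquivOfSurjective g (π.subgroupMap_surjective L))).trans (MulEquiv.subgroupCongr hLmap)

variable {G : Type u} [Group G] [Finite G] [IsSimpleGroup G]

/-- `X` is normalised by every member of `ℋ(XT)` -/
theorem le_normalizer_of_mem (hQ : Cfsg.IsQTKE G) (T : Sylow 2 G) {X : Subgroup G}
    (hX : X ∈ Cfsg.XiStar (T : Subgroup G)) {H : Subgroup G}
    (hH : H ∈ Cfsg.calHOver (X ⊔ (T : Subgroup G))) : H ≤ normalizer (X : Set G) := by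
  classical
  haveI : Fact (Nat.Prime 2) := ⟨Nat.prime_two⟩
  obtain ⟨hXi, hstar⟩ := hX
  obtain ⟨hcore, hle⟩ := hH
  obtain ⟨p, hp, hp2, DG⟩ := exists_data hXi
  haveI := Fact.mk hp
  have hXH : X ≤ H := le_sup_left.trans hle
  have hTH : (T : Subgroup G) ≤ H := le_sup_right.trans hle
  have D := DG.subgroupOf hXH hTH
  set Q := Cfsg.pCore 2 ↥H with hQdef
  have hQ2 : IsPGroup 2 Q := isPGroup_pCore 2
  set π := QuotientGroup.mk' Q with hπ
  have hπs : Function.Surjective π := QuotientGroup.mk'_surjective Q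
  let TH : Sylow 2 ↥H := T.subtype hTH
  have hTc : (TH : Subgroup ↥H) = (T : Subgroup G).subgroupOf H := Sylow.coe_subtype T hTH
  have hQT : Q ≤ (T : Subgroup G).subgroupOf H := by
    rw [← hTc, ← TH.3 (hQ2.to_sup_of_normal_left TH.2) le_sup_right]
    exact le_sup_left
  have hYO : Cfsg.pCore 2 (↥H ⧸ Q) = ⊥ := by
    have h1 : IsPGroup 2 ((Cfsg.pCore 2 (↥H ⧸ Q)).comap π) :=
      (isPGroup_pCore (G := ↥H ⧸ Q) 2).comap_of_ker_isPGroup π (by rw [hπ, QuotientGroup.ker_mk']; exact hQ2)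
    have h2 := le_pCore (N := (Cfsg.pCore 2 (↥H ⧸ Q)).comap π) h1
    rw [← map_comap_eq_self_of_surjective hπs (Cfsg.pCore 2 (↥H ⧸ Q)), Subgroup.map_eq_bot_iff, hπ,
      QuotientGroup.ker_mk']
    exact h2
  have hne : ¬ X.subgroupOf H ≤ π.ker := by
    intro h
    obtain ⟨x, hx, hxp, hxΦ⟩ := D.exists_elem hp2
    rw [hπ, QuotientGroup.ker_mk'] at h
    obtain ⟨j, hj⟩ := hQ2 ⟨x, h hx⟩
    have h1 : x = 1 := orderOf_eq_one_iff.1 (Nat.eq_one_of_dvd_coprimes
      (((Nat.coprime_primes hp Nat.prime_two).2 hp2).pow_right j) (orderOf_dvd_of_pow_eq_one hxp)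
      (orderOf_dvd_of_pow_eq_one (congrArg Subtype.val hj)))
    exact hxΦ (h1 ▸ one_mem _)
  have DY := D.map π hne
  have hrkY : ∀ r : ℕ, r.Prime → r ≠ 2 → Cfsg.PRankLE r 2 (↥H ⧸ Q) := fun r hr hr2 => by
    haveI := Fact.mk hr
    refine pRankLE_quotient Q ?_ (rank_le (hQT := hQ.1) hcore r hr hr2)
    obtain ⟨j, hj⟩ := hQ2.exists_card_eq
    rw [hj]
    exact ((Nat.coprime_primes Nat.prime_two hr).2 hr2.symm).pow_left j
  rcases DY.dichotomy hp2 hrkY hYO with hn | ⟨K, hK, hXK⟩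
  · -- `X = O²(X O₂(H))`
    haveI := hn
    set M := ((X.subgroupOf H).map π).comap π with hM
    haveI : M.Normal := hn.comap π
    have hMle : M ≤ X.subgroupOf H ⊔ Q := by rw [hM, comap_map_eq, hπ, QuotientGroup.ker_mk']
    have hMG : M.map H.subtype ≤ X ⊔ (T : Subgroup G) := by
      refine (Subgroup.map_mono (hMle.trans (sup_le_sup_left hQT _))).trans ?_
      rw [Subgroup.map_sup, map_subgroupOf_eq_of_le hXH, map_subgroupOf_eq_of_le hTH]
    have heq : Cfsg.Lib.JComp.oddGen (M.map H.subtype) = X := by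
      refine le_antisymm ((closure_le _).2 ?_) ?_
      · rintro g ⟨hg, ho⟩
        have hXT : X ⊔ (T : Subgroup G) ≤ normalizer (X : Set G) := sup_le le_normalizer DG.norm
        haveI : (X.subgroupOf (X ⊔ (T : Subgroup G))).Normal := normal_subgroupOf_of_le_normalizer hXT
        set π' := QuotientGroup.mk' (X.subgroupOf (X ⊔ (T : Subgroup G)))
        obtain ⟨x, hx, t, ht, e⟩ := (Cfsg.Lib.Coprime.mem_sup_of_le_normalizer DG.norm).1 (hMG hg)
        obtain ⟨j, hj⟩ := T.2 ⟨t, ht⟩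
        have h1 : π' ⟨g, hMG hg⟩ = π' ⟨t, mem_sup_right ht⟩ := by
          rw [show (⟨g, hMG hg⟩ : ↥(X ⊔ (T : Subgroup G))) = ⟨x, mem_sup_left hx⟩ * ⟨t, mem_sup_right ht⟩ from
            Subtype.ext e.symm, map_mul, show π' ⟨x, mem_sup_left hx⟩ = 1 from (QuotientGroup.eq_one_iff _).2 hx,
            one_mul]
        have h2 : π' ⟨g, hMG hg⟩ ^ 2 ^ j = 1 := by
          have ht' : t ^ 2 ^ j = 1 := congrArg Subtype.val hj
          rw [h1, ← map_pow, show (⟨t, mem_sup_right ht⟩ : ↥(X ⊔ (T : Subgroup G))) ^ 2 ^ j = 1 from Subtype.ext ht',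
            map_one]
        have h3 : orderOf (π' ⟨g, hMG hg⟩) ∣ orderOf g := (orderOf_map_dvd π' _).trans (dvd_of_eq (orderOf_mk g _))
        exact mem_subgroupOf.1 ((QuotientGroup.eq_one_iff (⟨g, hMG hg⟩ : ↥(X ⊔ (T : Subgroup G)))).1
          (orderOf_eq_one_iff.1 (Nat.eq_one_of_dvd_coprimes (ho.coprime_two_right.pow_right j) h3
            (orderOf_dvd_of_pow_eq_one h2))))
      · conv_lhs => rw [← hXi.1]
        refine Cfsg.Lib.JComp.oddGen_mono ?_
        rw [← map_subgroupOf_eq_of_le hXH]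
        exact Subgroup.map_mono (le_comap_map π _)
    have h1 : H ≤ normalizer ((M.map H.subtype : Subgroup G) : Set G) := fun g hg =>
      le_normalizer_map H.subtype ⟨⟨g, hg⟩, (normalizer_eq_top (H := M)).symm ▸ mem_top _, rfl⟩
    rw [← heq]
    exact h1.trans (Cfsg.Lib.JComp.normalizer_le_oddGen _)
  · -- a component gives a member of `ℒ(G, T)`
    exfalso
    obtain ⟨L, hL, hLsn, hLmap, hLqs⟩ := exists_over_component Q hQ2 hYO hK
    set LG := L.map H.subtype with hLG
    have hLGH : LG ≤ H := map_subtype_le _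
    have hLe : LG.subgroupOf H = L := comap_map_eq_self_of_injective H.subtype_injective L
    have hle' : LG ⊔ (T : Subgroup G) ≤ H := sup_le hLGH hTH
    have hmem : LG ∈ Cfsg.calL (T : Subgroup G) := by
      refine ⟨calC_iff.2 ⟨minPerf_subgroupOf le_sup_left ?_, ?_⟩, ⟨T.subtype le_sup_right, Sylow.coe_subtype T _⟩, ?_⟩
      · exact hL.map _ fun he => hL.ne ((map_eq_bot_iff_of_injective _ H.subtype_injective).1 he)
      · have e : LG.subgroupOf (LG ⊔ (T : Subgroup G)) = L.comap (inclusion hle') := by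
          rw [← hLe]; ext x; rfl
        rw [e]
        exact hLsn.comap _
      · intro he
        have hPT : Cfsg.pCoreOf 2 H ≤ (T : Subgroup G) :=
          (Subgroup.map_mono hQT).trans (by rw [map_subgroupOf_eq_of_le hTH])
        have h4 := Cfsg.Lib.JComp.le_pCoreOf (H := LG ⊔ (T : Subgroup G))
          (Cfsg.Lib.JComp.isPGroup_pCoreOf (p := 2) H) (hPT.trans le_sup_right)
          (hle'.trans (le_normalizer.trans (Cfsg.Lib.JComp.normalizer_le_pCoreOf 2 H)))
        rw [show Cfsg.pCoreOf 2 (LG ⊔ (T : Subgroup G)) = ⊥ by rw [Cfsg.pCoreOf, he, Subgroup.map_bot],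
          le_bot_iff] at h4
        exact hcore ((map_eq_bot_iff_of_injective _ H.subtype_injective).1 h4)
    have hqs : Cfsg.IsQuasisimple (↥LG ⧸ Cfsg.pCore 2 ↥LG) := by
      let e := L.equivMapOfInjective H.subtype H.subtype_injective
      refine (isQuasisimple_congr ?_).1 hLqs
      exact QuotientGroup.congr (Cfsg.pCore 2 ↥L) (Cfsg.pCore 2 ↥LG) e (pCore_map_equiv e)
    refine hstar LG hmem hqs (sup_le ?_ le_sup_right)
    intro x hx
    have h1 : π ⟨x, hXH hx⟩ ∈ (L ⊔ (T : Subgroup G).subgroupOf H).map π := by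
      rw [Subgroup.map_sup, hLmap]
      exact hXK (mem_map_of_mem π (mem_subgroupOf.2 hx))
    obtain ⟨y, hy, e⟩ := h1
    have h2 : y⁻¹ * ⟨x, hXH hx⟩ ∈ Q := QuotientGroup.eq.1 e
    have h3 : (⟨x, hXH hx⟩ : H) ∈ L ⊔ (T : Subgroup G).subgroupOf H := by
      rw [← mul_inv_cancel_left y (⟨x, hXH hx⟩ : H)]
      exact mul_mem hy (mem_sup_right (hQT h2))
    have h4 := mem_map_of_mem H.subtype h3
    rw [Subgroup.map_sup, map_subgroupOf_eq_of_le hTH] at h4
    exact h4

/-- `X T` is a uniqueness subgroup -/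
theorem uniqueness (hQ : Cfsg.IsQTKE G) (T : Sylow 2 G) {X : Subgroup G}
    (hX : X ∈ Cfsg.XiStar (T : Subgroup G)) :
    Cfsg.maxTwoLocalsContaining (X ⊔ (T : Subgroup G)) = {Subgroup.normalizer (X : Set G)} := by
  classical
  haveI : Fact (Nat.Prime 2) := ⟨Nat.prime_two⟩
  set N0 := normalizer (X : Set G) with hN0
  obtain ⟨p, hp, hp2, DG⟩ := exists_data hX.1
  haveI := Fact.mk hp
  have hall : ∀ H ∈ Cfsg.calHOver (X ⊔ (T : Subgroup G)), H ≤ N0 := fun H hH => le_normalizer_of_mem hQ T hX hH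
  have hXN0 : X ⊔ (T : Subgroup G) ≤ N0 := sup_le le_normalizer DG.norm
  obtain ⟨N, hN, hle⟩ := exists_twoLocal_ge hX.1.2.2.1
  have hNN0 := hall N ⟨pCore_ne_bot_of_twoLocal hN, hle⟩
  have hO2X : Cfsg.pCoreOf 2 X ≠ ⊥ := by
    intro h0
    have hchar := hQ.2.2 N hN ⟨T, le_sup_right.trans hle⟩
    have hXN : X ≤ N := le_sup_left.trans hle
    haveI : (X.subgroupOf N).Normal := normal_subgroupOf_of_le_normalizer hNN0
    have hPp : IsPGroup 2 (Cfsg.pCoreOf 2 N ⊓ X : Subgroup G) :=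
      (Cfsg.Lib.JComp.isPGroup_pCoreOf N).to_le inf_le_left
    have hzero : Cfsg.pCoreOf 2 N ⊓ X = ⊥ := by
      rw [← le_bot_iff, ← h0]
      refine Cfsg.Lib.JComp.le_pCoreOf hPp inf_le_right (Cfsg.Lib.Coprime.le_normalizer_inf
        (hXN.trans (le_normalizer.trans (Cfsg.Lib.JComp.normalizer_le_pCoreOf 2 N))) le_normalizer)
    obtain ⟨x, hx, hxp, hxΦ⟩ := DG.exists_elem hp2
    have hcent : (⟨x, hXN hx⟩ : N) ∈ centralizer (Cfsg.pCore 2 ↥N : Set N) := by
      refine mem_centralizer_iff.2 fun y hy => ?_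
      have hd : Disjoint (Cfsg.pCore 2 ↥N) (X.subgroupOf N) := by
        rw [disjoint_iff]
        refine (map_eq_bot_iff_of_injective _ N.subtype_injective).1 (le_bot_iff.1 ?_)
        rw [← hzero]
        exact le_inf (Subgroup.map_mono inf_le_left)
          ((Subgroup.map_mono inf_le_right).trans (map_subgroupOf_eq_of_le hXN).le)
      exact (Subgroup.commute_of_normal_of_disjoint _ _ inferInstance inferInstance hd y _ hy
        (mem_subgroupOf.2 hx)).eq
    have h1 : x ∈ Cfsg.pCoreOf 2 N ⊓ X := ⟨mem_map_of_mem N.subtype (hchar hcent), hx⟩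
    rw [hzero, mem_bot] at h1
    exact hxΦ (h1 ▸ one_mem _)
  have hloc : Cfsg.IsTwoLocal (normalizer (Cfsg.pCoreOf 2 X : Set G)) :=
    ⟨_, Cfsg.Lib.JComp.isPGroup_pCoreOf X, hO2X, rfl⟩
  have hN0le : N0 ≤ normalizer (Cfsg.pCoreOf 2 X : Set G) := Cfsg.Lib.JComp.normalizer_le_pCoreOf 2 X
  have heq : normalizer (Cfsg.pCoreOf 2 X : Set G) = N0 :=
    le_antisymm (hall _ ⟨pCore_ne_bot_of_twoLocal hloc, hXN0.trans hN0le⟩) hN0le
  have hmaxN0 : Cfsg.IsMaximalTwoLocal N0 := ⟨heq ▸ hloc, fun N' hN' h =>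
    le_antisymm (hall N' ⟨pCore_ne_bot_of_twoLocal hN', hXN0.trans h⟩) h⟩
  refine Set.eq_singleton_iff_unique_mem.2 ⟨⟨hmaxN0, hXN0⟩, ?_⟩
  rintro M ⟨hM, hXM⟩
  exact (hM.2 N0 hmaxN0.1 (hall M ⟨pCore_ne_bot_of_twoLocal hM.1, hXM⟩)).symm

end Cfsg.Lib.QTSolUniq
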