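import Cfsg.Agent.QTKE.Uniq.Radical
import Cfsg.Agent.GWDihedral.Mixed.Split3
import Cfsg.Agent.PGroups.AutOrder
import Cfsg.Prelude.Def_Quasithin

/-!
The configuration of a member of `Ξ(G, T)`: a subgroup generated by `p`-elements with an irreducible
elementary abelian quotient of order `p ^ 2`.
-/

set_option autoImplicit false
set_option linter.unusedSectionVars false
set_option linter.style.haveILetI false

namespace Cfsg.Lib.QTSolUniq

open Subgroup
open scoped commutatorElement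

universe u v

variable {Y : Type u} [Group Y]

/-- the configuration: `T` normalises `X`, which is generated by `p`-elements, and `X/Φ` is elementary abelian of
order `p ^ 2` with no proper nontrivial invariant normal subgroup -/
structure XData (p : ℕ) (X T Φ : Subgroup Y) : Prop where
  norm : T ≤ normalizer (X : Set Y)
  gen : X ≤ closure {x | x ∈ X ∧ ∃ k, x ^ p ^ k = 1}
  le : Φ ≤ X
  phi_norm : X ⊔ T ≤ normalizer (Φ : Set Y)
  index : Φ.relIndex X = p ^ 2
  exp : ∀ x ∈ X, x ^ p ∈ Φ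
  comm : ∀ x ∈ X, ∀ y ∈ X, x * y * x⁻¹ * y⁻¹ ∈ Φ
  irr : ∀ N : Subgroup Y, N ≤ X → X ⊔ T ≤ normalizer (N : Set Y) → N = X ∨ N ≤ Φ
  small : ¬ p ^ 4 ∣ Nat.card X

/-- a group of exponent `p` and order `p ^ 2` is not cyclic -/
theorem not_cyclic_of_exp_sq {p : ℕ} (hp : p.Prime) {B : Type v} [Group B] (hexp : ∀ b : B, b ^ p = 1)
    (hc : Nat.card B = p ^ 2) : ¬ IsCyclic B := fun h => by
  haveI := h
  haveI : Finite B := Nat.finite_of_card_ne_zero (by rw [hc]; exact pow_ne_zero _ hp.ne_zero)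
  obtain ⟨g, hg⟩ := IsCyclic.exists_ofOrder_eq_natCard (α := B)
  have h1 : orderOf g ≤ p := Nat.le_of_dvd hp.pos (orderOf_dvd_of_pow_eq_one (hexp g))
  rw [hg, hc, sq] at h1
  nlinarith [hp.two_le]

variable {p : ℕ} {X T Φ : Subgroup Y}

theorem XData.ne_bot (D : XData p X T Φ) (hp : p.Prime) : X ≠ ⊥ := fun h => by
  have h1 := D.index
  rw [h, relIndex_bot_right] at h1
  exact (Nat.one_lt_pow two_ne_zero hp.one_lt).ne h1

theorem XData.not_le (D : XData p X T Φ) (hp : p.Prime) : ¬ X ≤ Φ := fun h => by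
  have h1 := D.index
  rw [relIndex_eq_one.2 h] at h1
  exact (Nat.one_lt_pow two_ne_zero hp.one_lt).ne h1

/-- a normalised subgroup meets `X` in everything or inside `Φ` -/
theorem XData.inf_cases (D : XData p X T Φ) (N : Subgroup Y) (hN : X ⊔ T ≤ normalizer (N : Set Y)) :
    X ≤ N ∨ X ⊓ N ≤ Φ := by
  rcases D.irr (X ⊓ N) inf_le_left
    (Cfsg.Lib.Coprime.le_normalizer_inf (sup_le le_normalizer D.norm) hN) with h | h
  · exact Or.inl (inf_eq_left.1 h)
  · exact Or.inr h

variable [Finite Y]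

/-- a homomorphism of `XT` whose `p`-subgroups on `X` are cyclic kills `X` -/
theorem XData.trivial_of_cyclic (D : XData p X T Φ) [Fact p.Prime] {A : Type v} [Group A]
    (f : ↥(X ⊔ T) →* A)
    (hc : ∀ P : Subgroup A, P ≤ (X.subgroupOf (X ⊔ T)).map f → IsPGroup p P → IsCyclic P) :
    X.subgroupOf (X ⊔ T) ≤ f.ker := by
  have hp : p.Prime := Fact.out
  set N := f.ker.map (X ⊔ T).subtype with hN
  have hNn : X ⊔ T ≤ normalizer (N : Set Y) := by
    rw [hN]
    refine le_trans (fun x hx => ?_) (le_normalizer_map (X ⊔ T).subtype)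
    exact ⟨⟨x, hx⟩, normalizer_eq_top (H := f.ker) ▸ mem_top _, rfl⟩
  rcases D.inf_cases N hNn with h | h
  · intro x hx
    obtain ⟨y, hy, e⟩ := h hx
    rwa [← show y = x from Subtype.ext e]
  exfalso
  set X1 := X.subgroupOf (X ⊔ T) with hX1
  set Φ1 := Φ.subgroupOf (X ⊔ T) with hΦ1
  let g : X1 →* A := f.comp X1.subtype
  haveI hΦn : (Φ1.subgroupOf X1).Normal :=
    normal_subgroupOf_of_le_normalizer fun x hx => by
      rw [mem_normalizer_iff]
      intro y
      exact mem_normalizer_iff.1 (D.phi_norm x.2) y.1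
  have hker : g.ker ≤ Φ1.subgroupOf X1 := fun x hx => by
    exact h ⟨x.2, ⟨x.1, hx, rfl⟩⟩
  set q := QuotientGroup.mk' (Φ1.subgroupOf X1) with hq
  have hqs : Function.Surjective q := QuotientGroup.mk'_surjective _
  have hcard : Nat.card (X1 ⧸ Φ1.subgroupOf X1) = p ^ 2 := by
    rw [← index_eq_card, ← relIndex, hΦ1, hX1, relIndex_subgroupOf le_sup_left, D.index]
  have hexp : ∀ b : X1 ⧸ Φ1.subgroupOf X1, b ^ p = 1 := fun b => by
    obtain ⟨x, rfl⟩ := QuotientGroup.mk_surjective b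
    rw [← QuotientGroup.mk_pow, QuotientGroup.eq_one_iff]
    exact D.exp x.1.1 x.2
  obtain ⟨S⟩ := (inferInstance : Nonempty (Sylow p X1))
  have hSq : (S : Subgroup X1).map q = ⊤ := by
    refine Subgroup.eq_top_of_card_eq _ (Nat.dvd_antisymm (card_subgroup_dvd_card _) ?_)
    rw [hcard]
    have h1 := card_mul_index ((S : Subgroup X1).map q)
    rw [hcard] at h1
    refine ((Nat.Coprime.pow_left 2 ((Nat.Prime.coprime_iff_not_dvd hp).2 fun hd =>
      S.not_dvd_index (hd.trans ((S : Subgroup X1).index_map_dvd hqs)))).dvd_mul_right.1 ?_)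
    rw [h1]
  have hP : IsPGroup p ((S : Subgroup X1).map g) := S.2.map g
  have hPle : (S : Subgroup X1).map g ≤ (X.subgroupOf (X ⊔ T)).map f := by
    rintro _ ⟨x, -, rfl⟩
    exact ⟨x.1, x.2, rfl⟩
  haveI := hc _ hPle hP
  obtain ⟨c, hc'⟩ := IsCyclic.exists_generator (α := (S : Subgroup X1).map g)
  obtain ⟨s, hs, hsc⟩ := c.2
  refine not_cyclic_of_exp_sq hp hexp hcard ⟨⟨q s, fun b => ?_⟩⟩
  obtain ⟨x, hx, rfl⟩ : b ∈ (S : Subgroup X1).map q := hSq ▸ mem_top b
  obtain ⟨k, hk⟩ := mem_zpowers_iff.1 (hc' ⟨g x, mem_map_of_mem g hx⟩)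
  refine mem_zpowers_iff.2 ⟨k, ?_⟩
  have h1 : (c : A) ^ k = g x := congrArg Subtype.val hk
  rw [← hsc, ← map_zpow] at h1
  rw [← map_zpow]
  refine (QuotientGroup.eq).2 (hker ?_)
  rw [MonoidHom.mem_ker, map_mul, map_inv, h1, inv_mul_cancel]

/-- the image of the configuration under a homomorphism not killing `X` -/
theorem XData.map (D : XData p X T Φ) [Fact p.Prime] {Z : Type v} [Group Z] [Finite Z] (f : Y →* Z)
    (hne : ¬ X ≤ f.ker) : XData p (X.map f) (T.map f) (Φ.map f) := by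
  have hkn : X ⊔ T ≤ normalizer (f.ker : Set Y) := fun x _ => by
    rw [normalizer_eq_top]; exact mem_top x
  have hker : X ⊓ f.ker ≤ Φ := (D.inf_cases f.ker hkn).resolve_left hne
  refine ⟨(Subgroup.map_mono D.norm).trans (le_normalizer_map f), ?_, Subgroup.map_mono D.le,
    (Subgroup.map_sup X T f) ▸ (Subgroup.map_mono D.phi_norm).trans (le_normalizer_map f), ?_, ?_, ?_, ?_, ?_⟩
  · refine (Subgroup.map_mono D.gen).trans ?_
    rw [MonoidHom.map_closure]
    refine (closure_le _).2 ?_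
    rintro _ ⟨x, ⟨hx, k, hk⟩, rfl⟩
    exact subset_closure ⟨mem_map_of_mem f hx, k, by rw [← map_pow, hk, map_one]⟩
  · have h1 : ((Φ.map f).subgroupOf (X.map f)).comap (f.subgroupMap X) = Φ.subgroupOf X := by
      ext x
      constructor
      · rintro ⟨y, hy, e⟩
        have hk : (x : Y) * y⁻¹ ∈ f.ker := by
          rw [MonoidHom.mem_ker, map_mul, map_inv, show f y = f x from e, mul_inv_cancel]
        have h2 := hker ⟨mul_mem x.2 (Subgroup.inv_mem _ (D.le hy)), hk⟩
        exact mem_subgroupOf.2 (by simpa using mul_mem h2 hy)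
      · intro hx
        exact mem_map_of_mem f hx
    show ((Φ.map f).subgroupOf (X.map f)).index = p ^ 2
    rw [← index_comap_of_surjective _ (f.subgroupMap_surjective X), h1, ← relIndex, D.index]
  · rintro _ ⟨x, hx, rfl⟩
    exact ⟨x ^ p, D.exp x hx, map_pow f x p⟩
  · rintro _ ⟨x, hx, rfl⟩ _ ⟨y, hy, rfl⟩
    exact ⟨_, D.comm x hx y hy, by rw [map_mul, map_mul, map_mul, map_inv, map_inv]⟩
  · intro N hN hNn
    have hn : X ⊔ T ≤ normalizer (N.comap f : Set Y) := fun g hg => by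
      refine (le_normalizer_comap f) ?_
      exact hNn (Subgroup.map_sup X T f ▸ mem_map_of_mem f hg)
    have hmap : (X ⊓ N.comap f).map f = N := by
      refine le_antisymm ((Subgroup.map_mono inf_le_right).trans (map_comap_le _ _)) fun y hy => ?_
      obtain ⟨x, hx, rfl⟩ := hN hy
      exact mem_map_of_mem f ⟨hx, hy⟩
    rcases D.inf_cases _ hn with h | h
    · exact Or.inl (by rw [← hmap, inf_eq_left.2 h])
    · exact Or.inr (hmap ▸ Subgroup.map_mono h)
  · exact fun h => D.small (h.trans (card_map_dvd X f))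

/-! ### members of `Ξ(G, T)` -/

theorem frattini_quotient_sq {B : Type v} [Group B] [Finite B] {p : ℕ} [Fact p.Prime]
    (h : (Nat.card B = p ^ 2 ∧ IsMulCommutative B ∧ ∀ x : B, x ^ p = 1) ∨
      (Nat.card B = p ^ 3 ∧ ¬ IsMulCommutative B)) : (frattini B).index = p ^ 2 := by
  have hp : p.Prime := Fact.out
  obtain ⟨n, hn, hn23⟩ : ∃ n, Nat.card B = p ^ n ∧ (n = 2 ∨ n = 3) := by
    rcases h with ⟨h, -, -⟩ | ⟨h, -⟩
    exacts [⟨2, h, Or.inl rfl⟩, ⟨3, h, Or.inr rfl⟩]
  have hB : IsPGroup p B := IsPGroup.of_card hn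
  have hnc : ¬ IsCyclic B := by
    rcases h with ⟨hc, -, he⟩ | ⟨-, hna⟩
    · exact not_cyclic_of_exp_sq hp he hc
    · intro hcyc
      haveI := hcyc
      letI : CommGroup B := IsCyclic.commGroup
      exact hna ⟨⟨mul_comm⟩⟩
  obtain ⟨k, hk⟩ := (hB.to_quotient (frattini B)).exists_card_eq
  rw [index_eq_card, hk]
  congr 1
  have hkn : k ≤ n := (Nat.pow_le_pow_iff_right hp.one_lt).1 (by
    rw [← hk, ← hn]; exact Nat.card_le_card_of_surjective _ QuotientGroup.mk_surjective)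
  have hk2 : 2 ≤ k := by
    by_contra hlt
    apply hnc
    haveI : IsCyclic (B ⧸ frattini B) := by
      rcases (show k = 0 ∨ k = 1 by omega) with rfl | rfl
      · haveI : Subsingleton (B ⧸ frattini B) := (Nat.card_eq_one_iff_unique.1 (hk.trans (pow_zero p))).1
        infer_instance
      · exact isCyclic_of_prime_card (hk.trans (pow_one p))
    obtain ⟨g, hg⟩ := IsCyclic.exists_generator (α := B ⧸ frattini B)
    obtain ⟨b, rfl⟩ := QuotientGroup.mk_surjective g
    refine isCyclic_iff_exists_zpowers_eq_top.2 ⟨b, frattini_nongenerating (eq_top_iff.2 fun x _ => ?_)⟩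
    obtain ⟨i, hi⟩ := mem_zpowers_iff.1 (hg (x : B ⧸ frattini B))
    rw [← QuotientGroup.mk_zpow, QuotientGroup.eq] at hi
    rw [show x = b ^ i * ((b ^ i)⁻¹ * x) by group]
    exact mul_mem (mem_sup_left (zpow_mem (mem_zpowers b) i)) (mem_sup_right hi)
  rcases hn23 with rfl | rfl
  · omega
  · by_contra hk3
    obtain rfl : k = 3 := by omega
    have hΦ : frattini B = ⊥ := by
      have h1 := card_eq_card_quotient_mul_card_subgroup (frattini B)
      rw [hk, hn] at h1
      exact card_eq_one.1 (Nat.eq_of_mul_eq_mul_left (pow_pos hp.pos 3) (by rw [mul_one]; exact h1.symm))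
    haveI := Cfsg.Lib.PGroups.isMulCommutative_quotient_frattini hB
    rcases h with ⟨h, -, -⟩ | ⟨-, hna⟩
    · rw [hn] at h
      exact absurd (Nat.pow_right_injective hp.two_le h) (by norm_num)
    refine hna ⟨⟨fun a b => ?_⟩⟩
    have e : ((a * b : B) : B ⧸ frattini B) = ((b * a : B) : B ⧸ frattini B) := by
      rw [QuotientGroup.mk_mul, QuotientGroup.mk_mul, mul_comm']
    rwa [QuotientGroup.eq, hΦ, mem_bot, inv_mul_eq_one] at e

/-- a member of `Ξ(G, T)` gives the configuration -/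
theorem exists_data {G : Type u} [Group G] [Finite G] {T X : Subgroup G} (h : X ∈ Cfsg.Xi T) :
    ∃ p : ℕ, p.Prime ∧ p ≠ 2 ∧ XData p X T (Cfsg.twoPhiCore X) := by
  obtain ⟨hodd, hT, -, ⟨p, hp, hp2, hB⟩, hirr⟩ := h
  haveI := Fact.mk hp
  refine ⟨p, hp, hp2, ?_⟩
  set Q := Cfsg.pCore 2 ↥X
  set π := QuotientGroup.mk' Q with hπ
  have hπs : Function.Surjective π := QuotientGroup.mk'_surjective Q
  set Φ := frattini (↥X ⧸ Q) with hΦ
  have hC : Cfsg.twoPhiCore X = (Φ.comap π).map X.subtype := rfl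
  have hBp : IsPGroup p (↥X ⧸ Q) := by
    rcases hB with ⟨h, -, -⟩ | ⟨h, -⟩ <;> exact IsPGroup.of_card h
  have hQ2 : IsPGroup 2 Q := Cfsg.Lib.Components.isPGroup_pCore 2
  have hpow : ∀ x : X, Odd (orderOf (x : G)) → ∃ k, (x : G) ^ p ^ k = 1 := fun x hx => by
    obtain ⟨k, hk⟩ := hBp (x : ↥X ⧸ Q)
    rw [← QuotientGroup.mk_pow, QuotientGroup.eq_one_iff] at hk
    obtain ⟨j, hj⟩ := hQ2 ⟨_, hk⟩
    refine ⟨k, ?_⟩
    have h1 : ((x : G) ^ p ^ k) ^ 2 ^ j = 1 := congrArg (fun y => ((y : Q).1.1 : G)) hj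
    have h2 : Odd (orderOf ((x : G) ^ p ^ k)) := hx.of_dvd_nat (orderOf_pow_dvd _)
    exact orderOf_eq_one_iff.1 (Nat.eq_one_of_dvd_coprimes (h2.coprime_two_right.pow_right j) dvd_rfl
      (orderOf_dvd_of_pow_eq_one h1))
  have hle : Cfsg.twoPhiCore X ≤ X := map_subtype_le _
  haveI := Cfsg.Lib.PGroups.isMulCommutative_quotient_frattini hBp
  have hexp : ∀ x : X, π x ^ p ∈ Φ := fun x => by
    have := Cfsg.Lib.PGroups.pow_prime_quotient_frattini hBp (π x : (↥X ⧸ Q) ⧸ Φ)
    rwa [← QuotientGroup.mk_pow, QuotientGroup.eq_one_iff] at this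
  have hnorm : X ⊔ T ≤ normalizer (X : Set G) := sup_le le_normalizer hT
  refine ⟨hT, ?_, hle, ?_, ?_, fun x hx => ?_, fun x hx y hy => ?_, fun N hNX hN => ?_, ?_⟩
  · conv_lhs => rw [← hodd]
    exact closure_mono fun x ⟨hx, ho⟩ => ⟨hx, hpow ⟨x, hx⟩ ho⟩
  · refine hnorm.trans ?_
    rw [hC]
    have hK : (Φ.comap π).Characteristic := by
      rw [characteristic_iff_map_le]
      intro φ
      haveI hQc : Q.Characteristic := inferInstance
      let ψ : (↥X ⧸ Q) ≃* (↥X ⧸ Q) := QuotientGroup.congr Q Q φ (characteristic_iff_map_eq.1 hQc φ)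
      rintro _ ⟨x, hx, rfl⟩
      show π (φ x) ∈ Φ
      have h2 : (frattini (↥X ⧸ Q)).map ψ.toMonoidHom = frattini (↥X ⧸ Q) :=
        characteristic_iff_map_eq.1 frattini_characteristic ψ
      rw [hΦ, ← h2]
      exact ⟨π x, hx, rfl⟩
    exact Cfsg.Lib.OddP.le_normalizer_map_of_char _
  · rw [hC]
    conv_lhs => arg 2; rw [← range_subtype X, MonoidHom.range_eq_map]
    rw [relIndex_map_map_of_injective _ _ X.subtype_injective, relIndex_top_right,
      index_comap_of_surjective _ hπs, hΦ, frattini_quotient_sq hB]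
  · exact ⟨⟨x, hx⟩ ^ p, mem_comap.2 (by rw [map_pow]; exact hexp _), rfl⟩
  · refine ⟨⟨x, hx⟩ * ⟨y, hy⟩ * ⟨x, hx⟩⁻¹ * ⟨y, hy⟩⁻¹, ?_, rfl⟩
    refine mem_comap.2 ?_
    rw [map_mul, map_mul, map_mul, map_inv, map_inv, ← QuotientGroup.eq_one_iff,
      QuotientGroup.mk_mul, QuotientGroup.mk_mul, QuotientGroup.mk_mul, QuotientGroup.mk_inv,
      QuotientGroup.mk_inv]
    exact commutatorElement_eq_one_iff_mul_comm.2 (mul_comm' _ _)
  · have hTN : T ≤ normalizer ((N ⊔ Cfsg.twoPhiCore X : Subgroup G) : Set G) := by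
      have hTn : T ≤ normalizer (Cfsg.twoPhiCore X : Set G) := by
        refine hT.trans ?_
        rw [hC]
        have hK : (Φ.comap π).Characteristic := by
          rw [characteristic_iff_map_le]
          intro φ
          haveI hQc : Q.Characteristic := inferInstance
          let ψ : (↥X ⧸ Q) ≃* (↥X ⧸ Q) := QuotientGroup.congr Q Q φ (characteristic_iff_map_eq.1 hQc φ)
          rintro _ ⟨x, hx, rfl⟩
          show π (φ x) ∈ Φ
          have h2 : (frattini (↥X ⧸ Q)).map ψ.toMonoidHom = frattini (↥X ⧸ Q) :=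
            characteristic_iff_map_eq.1 frattini_characteristic ψ
          rw [hΦ, ← h2]
          exact ⟨π x, hx, rfl⟩
        exact Cfsg.Lib.OddP.le_normalizer_map_of_char _
      exact Cfsg.Lib.Coprime.le_normalizer_sup (le_sup_right.trans hN) hTn
    rcases hirr (N ⊔ Cfsg.twoPhiCore X) le_sup_right (sup_le hNX hle) hTN with h | h
    · exact Or.inr (h ▸ le_sup_left)
    · left
      refine le_antisymm hNX ?_
      haveI hNn : (N.subgroupOf X).Normal := normal_subgroupOf_of_le_normalizer (le_sup_left.trans hN)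
      have htop : (N.subgroupOf X).map π = ⊤ := by
        refine frattini_nongenerating ?_
        rw [eq_top_iff]
        intro b _
        obtain ⟨x, rfl⟩ := hπs b
        have hx : (x : G) ∈ N ⊔ Cfsg.twoPhiCore X := by rw [h]; exact x.2
        rw [hC, ← map_subgroupOf_eq_of_le hNX, ← Subgroup.map_sup] at hx
        obtain ⟨z, hz, e⟩ := hx
        rw [← X.subtype_injective e]
        have h3 := mem_map_of_mem π hz
        rw [Subgroup.map_sup, map_comap_eq_self_of_surjective hπs] at h3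
        exact h3
      conv_lhs => rw [← hodd]
      refine (closure_le _).2 ?_
      rintro x ⟨hx, ho⟩
      obtain ⟨n, hn, e⟩ : π ⟨x, hx⟩ ∈ (N.subgroupOf X).map π := htop ▸ mem_top _
      obtain ⟨j, hj⟩ := hQ2 ⟨_, QuotientGroup.eq.1 e⟩
      have h1 : (QuotientGroup.mk' (N.subgroupOf X) ⟨x, hx⟩) ^ 2 ^ j = 1 := by
        have h2 : (n⁻¹ * ⟨x, hx⟩ : X) ^ 2 ^ j = 1 := congrArg Subtype.val hj
        have h3 := congrArg (fun z : X => (z : X ⧸ N.subgroupOf X)) h2
        simp only [QuotientGroup.mk_pow, QuotientGroup.mk_mul, QuotientGroup.mk_inv,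
          (QuotientGroup.eq_one_iff n).2 hn, inv_one, one_mul, QuotientGroup.mk_one] at h3
        exact h3
      have h4 : orderOf (QuotientGroup.mk' (N.subgroupOf X) ⟨x, hx⟩) ∣ orderOf x :=
        (orderOf_map_dvd (QuotientGroup.mk' (N.subgroupOf X)) _).trans (dvd_of_eq (orderOf_mk x hx))
      exact (QuotientGroup.eq_one_iff (N := N.subgroupOf X) (⟨x, hx⟩ : X)).1 (orderOf_eq_one_iff.1 (Nat.eq_one_of_dvd_coprimes
        (ho.coprime_two_right.pow_right j) h4 (orderOf_dvd_of_pow_eq_one h1)))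
  · intro hd
    have hX : Nat.card X = Nat.card (↥X ⧸ Q) * Nat.card Q := card_eq_card_quotient_mul_card_subgroup Q
    obtain ⟨i, hi⟩ := hQ2.exists_card_eq
    rw [hX, hi] at hd
    have hcop : (p ^ 4).Coprime (2 ^ i) := Nat.Coprime.pow _ _ ((Nat.coprime_primes hp Nat.prime_two).2 hp2)
    have h4 := hcop.dvd_mul_right.1 hd
    rcases hB with ⟨h, -, -⟩ | ⟨h, -⟩ <;> rw [h] at h4 <;>
      exact absurd ((Nat.pow_dvd_pow_iff_le_right hp.one_lt).1 h4) (by norm_num)

end Cfsg.Lib.QTSolUniq
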