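import Cfsg.Agent.QTKE.SolUniq.Normal
import Cfsg.Agent.Coprime.Sylow

/-!
`X` centralises a normal subgroup of order prime to `p`: its Sylow subgroup centralises Sylow subgroups for
all odd primes.
-/

set_option autoImplicit false
set_option linter.unusedSectionVars false
set_option linter.style.haveILetI false

namespace Cfsg.Lib.QTSolUniq

open Subgroup Cfsg.Lib.Components
open scoped commutatorElement

universe u

variable {Y : Type u} [Group Y] [Finite Y] {p : ℕ} [Fact p.Prime] {X T Φ : Subgroup Y}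

/-- every `p`-subgroup of `X` centralises some Sylow `r`-subgroup of `E`, `r` odd -/
theorem XData.centralizes_sylow (D : XData p X T Φ) (hp2 : p ≠ 2)
    (hrk : ∀ r : ℕ, r.Prime → r ≠ 2 → Cfsg.PRankLE r 2 Y) (E : Subgroup Y) [E.Normal]
    (hco : ¬ p ∣ Nat.card E) {P : Subgroup Y} (hPX : P ≤ X) (hP : IsPGroup p P) {r : ℕ} [Fact r.Prime]
    (hr2 : r ≠ 2) (hrp : r ≠ p) : ∃ R : Sylow r E, P ≤ centralizer (((R : Subgroup E).map E.subtype : Subgroup Y) : Set Y) := by
  classical
  have hp : p.Prime := Fact.out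
  obtain ⟨R⟩ := (inferInstance : Nonempty (Sylow r E))
  set R0 := (R : Subgroup E).map E.subtype with hR0
  set N := normalizer (R0 : Set Y) with hN
  set U := X ⊔ T ⊔ E with hU
  set T2 := N ⊓ U with hT2
  set X1 := (X ⊔ E) ⊓ N with hX1
  set S : Set Y := {x | x ∈ X1 ∧ ∃ k, x ^ p ^ k = 1} with hS
  set X2 := closure S with hX2
  set Φ2 := X2 ⊓ (Φ ⊔ E) with hΦ2
  have hX2le : X2 ≤ X1 := (closure_le _).2 fun x hx => hx.1
  have hX2XE : X2 ≤ X ⊔ E := hX2le.trans inf_le_left
  have hEall : ∀ H : Subgroup Y, H ≤ normalizer (E : Set Y) := fun H => by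
    rw [normalizer_eq_top]; exact le_top
  -- every element is adjusted into `N` by an element of `E`
  have hfrat : ∀ y : Y, ∃ e ∈ E, ∃ n ∈ N, e * n = y := by
    intro y
    have hf : normalizer (((R : Subgroup E).map E.subtype : Subgroup Y) : Set Y) ⊔ E = ⊤ :=
      Sylow.normalizer_sup_eq_top R
    exact mem_sup_of_normal_left.1 (show y ∈ E ⊔ N from by rw [sup_comm]; exact hf.ge (mem_top y))
  have hUXE : U ≤ normalizer ((X ⊔ E : Subgroup Y) : Set Y) :=
    sup_le (Cfsg.Lib.Coprime.le_normalizer_sup (sup_le le_normalizer D.norm) (hEall _))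
      (le_sup_right.trans le_normalizer)
  have hUΦE : U ≤ normalizer ((Φ ⊔ E : Subgroup Y) : Set Y) :=
    sup_le (Cfsg.Lib.Coprime.le_normalizer_sup D.phi_norm (hEall _)) (le_sup_right.trans le_normalizer)
  have hX2U : X2 ≤ U := hX2XE.trans (sup_le (le_sup_left.trans le_sup_left) le_sup_right)
  have hT2X2 : T2 ≤ normalizer (X2 : Set Y) := by
    intro g hg
    have h1 : g ∈ normalizer (X1 : Set Y) :=
      (Cfsg.Lib.Coprime.le_normalizer_inf ((inf_le_right : T2 ≤ U).trans hUXE)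
        ((inf_le_left : T2 ≤ N).trans le_normalizer)) hg
    refine Cfsg.Lib.Coprime.conjMap_eq_self_iff.1 ?_
    rw [Cfsg.Lib.Coprime.conjMap, hX2, MonoidHom.map_closure]
    congr 1
    ext y
    constructor
    · rintro ⟨x, ⟨hx, k, hk⟩, rfl⟩
      exact ⟨(mem_normalizer_iff.1 h1 x).1 hx, k, by rw [← map_pow, hk, map_one]⟩
    · rintro ⟨hy, k, hk⟩
      refine ⟨g⁻¹ * y * g, ⟨(mem_normalizer_iff''.1 h1 y).1 hy, k, ?_⟩, by simp [mul_assoc]⟩
      rw [show (g⁻¹ * y * g) ^ p ^ k = g⁻¹ * y ^ p ^ k * g by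
        simpa using (map_pow (MulAut.conj g⁻¹) y (p ^ k)).symm, hk]
      group
  -- `p`-elements lift
  have hlift : X ⊔ E ≤ X2 ⊔ E := by
    refine sup_le (D.gen.trans ((closure_le _).2 ?_)) le_sup_right
    rintro x ⟨hx, k, hk⟩
    obtain ⟨e, he, n, hn, hen⟩ := hfrat x
    have hnE : n ∈ X1 := by
      refine ⟨?_, hn⟩
      rw [show n = e⁻¹ * x by rw [← hen, inv_mul_cancel_left]]
      exact mul_mem (Subgroup.inv_mem _ (mem_sup_right he)) (mem_sup_left hx)
    have hcop : (Nat.card E).Coprime (p ^ k) :=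
      (Nat.Coprime.pow_right k ((Nat.Prime.coprime_iff_not_dvd hp).2 hco).symm)
    obtain ⟨m, hm⟩ := exists_pow_eq_self_of_coprime (x := x) (n := Nat.card E)
      (hcop.coprime_dvd_right (orderOf_dvd_of_pow_eq_one hk))
    have hmk : ∀ i : ℕ, ((n ^ i : Y) : Y ⧸ E) = ((x ^ i : Y) : Y ⧸ E) := fun i => by
      rw [QuotientGroup.mk_pow, QuotientGroup.mk_pow, ← hen, QuotientGroup.mk_mul,
        (QuotientGroup.eq_one_iff e).2 he, one_mul]
    set n' := (n ^ Nat.card E) ^ m with hn'
    have hn'X : n' ∈ X2 := by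
      refine Subgroup.subset_closure ⟨pow_mem (pow_mem hnE _) _, k, ?_⟩
      have h1 : n ^ p ^ k ∈ E := by
        rw [← QuotientGroup.eq_one_iff, hmk, hk, QuotientGroup.mk_one]
      have h2 : (n ^ p ^ k) ^ Nat.card E = 1 :=
        congrArg Subtype.val (pow_card_eq_one' (x := (⟨_, h1⟩ : E)))
      rw [hn', ← pow_mul, ← pow_mul, show Nat.card E * (m * p ^ k) = p ^ k * Nat.card E * m by ring,
        pow_mul, pow_mul, h2, one_pow]
    have h3 : n'⁻¹ * x ∈ E := by
      rw [← QuotientGroup.eq, hn', ← pow_mul, hmk, pow_mul, hm]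
    rw [show x = n' * (n'⁻¹ * x) by group]
    exact mul_mem (mem_sup_left hn'X) (mem_sup_right h3)
  have hXEΦ : X ⊓ (Φ ⊔ E) = Φ := by
    refine le_antisymm (fun x hx => ?_) (le_inf D.le le_sup_left)
    obtain ⟨a, ha, e, he, hae⟩ := mem_sup_of_normal_right.1 hx.2
    have h1 : e ∈ X ⊓ E := ⟨by
      rw [show e = a⁻¹ * x by rw [← hae, inv_mul_cancel_left]]
      exact mul_mem (Subgroup.inv_mem _ (D.le ha)) hx.1, he⟩
    rw [← hae]
    refine mul_mem ha ?_
    rcases D.inf_cases E (hEall _) with h | h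
    · obtain ⟨y, hy, hyp, hyΦ⟩ := D.exists_elem hp2
      exfalso
      apply hco
      rw [← orderOf_eq_prime hyp fun h => hyΦ (h ▸ one_mem _), ← orderOf_mk y (h hy)]
      exact orderOf_dvd_natCard _
    · exact h h1
  have hidx : Φ2.relIndex X2 = p ^ 2 := by
    have e1 : X2 ⊔ (Φ ⊔ E) = X ⊔ E :=
      le_antisymm (sup_le hX2XE (sup_le (D.le.trans le_sup_left) le_sup_right))
        (hlift.trans (sup_le le_sup_left (le_sup_right.trans le_sup_right)))
    have e2 : X ⊔ (Φ ⊔ E) = X ⊔ E :=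
      le_antisymm (sup_le le_sup_left (sup_le (D.le.trans le_sup_left) le_sup_right))
        (sup_le le_sup_left (le_sup_right.trans le_sup_right))
    have key : ∀ A : Subgroup Y, A ≤ U → (Φ ⊔ E).relIndex A = (Φ ⊔ E).relIndex (A ⊔ (Φ ⊔ E)) := by
      intro A hA
      have hΦEU : Φ ⊔ E ≤ U := sup_le ((D.le.trans le_sup_left).trans le_sup_left) le_sup_right
      haveI : ((Φ ⊔ E).subgroupOf U).Normal := normal_subgroupOf_of_le_normalizer hUΦE
      rw [← relIndex_subgroupOf (sup_le hA hΦEU), ← relIndex_subgroupOf hA,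
        subgroupOf_sup hA hΦEU, relIndex_sup_right]
    rw [hΦ2, inf_relIndex_left, key X2 hX2U, e1, ← e2, ← key X (le_sup_left.trans le_sup_left),
      ← inf_relIndex_left, hXEΦ, D.index]
  have D2 : XData p X2 T2 Φ2 := by
    refine ⟨hT2X2, ?_, inf_le_left, ?_, hidx, ?_, ?_, ?_, ?_⟩
    · refine (closure_le _).2 fun x hx => ?_
      exact Subgroup.subset_closure ⟨Subgroup.subset_closure hx, hx.2⟩
    · exact Cfsg.Lib.Coprime.le_normalizer_inf (sup_le le_normalizer hT2X2)
        (sup_le (hX2U.trans hUΦE) (inf_le_right.trans hUΦE))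
    · intro x hx
      refine ⟨pow_mem hx p, ?_⟩
      obtain ⟨a, ha, e, he, rfl⟩ := mem_sup_of_normal_right.1 (hX2XE hx)
      have h1 : (a ^ p)⁻¹ * (a * e) ^ p ∈ E := by
        rw [← QuotientGroup.eq, QuotientGroup.mk_pow, QuotientGroup.mk_pow, QuotientGroup.mk_mul,
          (QuotientGroup.eq_one_iff e).2 he, mul_one]
      rw [show (a * e) ^ p = a ^ p * ((a ^ p)⁻¹ * (a * e) ^ p) by group]
      exact mul_mem (mem_sup_left (D.exp a ha)) (mem_sup_right h1)
    · intro x hx y hy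
      refine ⟨mul_mem (mul_mem (mul_mem hx hy) (Subgroup.inv_mem _ hx)) (Subgroup.inv_mem _ hy), ?_⟩
      obtain ⟨a, ha, e, he, rfl⟩ := mem_sup_of_normal_right.1 (hX2XE hx)
      obtain ⟨b, hb, f, hf, rfl⟩ := mem_sup_of_normal_right.1 (hX2XE hy)
      have h1 : (a * b * a⁻¹ * b⁻¹)⁻¹ * (a * e * (b * f) * (a * e)⁻¹ * (b * f)⁻¹) ∈ E := by
        rw [← QuotientGroup.eq]
        simp only [QuotientGroup.mk_mul, QuotientGroup.mk_inv, (QuotientGroup.eq_one_iff e).2 he,
          (QuotientGroup.eq_one_iff f).2 hf, mul_one]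
      rw [show a * e * (b * f) * (a * e)⁻¹ * (b * f)⁻¹ = (a * b * a⁻¹ * b⁻¹) *
        ((a * b * a⁻¹ * b⁻¹)⁻¹ * (a * e * (b * f) * (a * e)⁻¹ * (b * f)⁻¹)) by group]
      exact mul_mem (mem_sup_left (D.comm a ha b hb)) (mem_sup_right h1)
    · intro M hM hMn
      have hMU : U ≤ normalizer ((M ⊔ E : Subgroup Y) : Set Y) := by
        intro y hy
        obtain ⟨e, he, n, hn, rfl⟩ := hfrat y
        refine mul_mem ((le_sup_right.trans le_normalizer : E ≤ normalizer ((M ⊔ E : Subgroup Y) : Set Y)) he) ?_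
        have hnU : n ∈ U := by
          rw [show n = e⁻¹ * (e * n) by group]
          exact mul_mem (Subgroup.inv_mem _ (mem_sup_right he)) hy
        exact (Cfsg.Lib.Coprime.le_normalizer_sup (le_sup_right.trans hMn : T2 ≤ _) (hEall _)) ⟨hn, hnU⟩
      rcases D.inf_cases (M ⊔ E) (le_sup_left.trans hMU) with h | h
      · left
        refine le_antisymm hM ((closure_le _).2 ?_)
        rintro x ⟨hxX, k, hk⟩
        haveI : (M.subgroupOf X2).Normal := normal_subgroupOf_of_le_normalizer (le_sup_left.trans hMn)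
        have hxX2 : x ∈ X2 := Subgroup.subset_closure ⟨hxX, k, hk⟩
        obtain ⟨a, ha, e, he, hae⟩ := mem_sup_of_normal_right.1
          ((sup_le h le_sup_right : X ⊔ E ≤ M ⊔ E) (hX2XE hxX2))
        have heX2 : e ∈ X2 := by
          rw [show e = a⁻¹ * x by rw [← hae, inv_mul_cancel_left]]
          exact mul_mem (Subgroup.inv_mem _ (hM ha)) hxX2
        set π := QuotientGroup.mk' (M.subgroupOf X2)
        have h1 : π ⟨x, hxX2⟩ = π ⟨e, heX2⟩ := by
          rw [show (⟨x, hxX2⟩ : X2) = ⟨a, hM ha⟩ * ⟨e, heX2⟩ from Subtype.ext hae.symm, map_mul,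
            show π ⟨a, hM ha⟩ = 1 from (QuotientGroup.eq_one_iff _).2 ha, one_mul]
        have h2 : orderOf (π ⟨x, hxX2⟩) ∣ p ^ k := orderOf_dvd_of_pow_eq_one (by
          rw [← map_pow, show (⟨x, hxX2⟩ : X2) ^ p ^ k = 1 from Subtype.ext hk, map_one])
        have h3 : orderOf (π ⟨x, hxX2⟩) ∣ Nat.card E := by
          rw [h1]
          refine (orderOf_map_dvd π _).trans ?_
          rw [orderOf_mk, ← orderOf_mk e he]
          exact orderOf_dvd_natCard _
        exact (QuotientGroup.eq_one_iff (⟨x, hxX2⟩ : X2)).1 (orderOf_eq_one_iff.1 (Nat.eq_one_of_dvd_coprimes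
          (((Nat.Prime.coprime_iff_not_dvd hp).2 hco).pow_left k) h2 h3))
      · right
        refine fun m hm => ⟨hM hm, ?_⟩
        obtain ⟨a, ha, e, he, hae⟩ := mem_sup_of_normal_right.1 (hX2XE (hM hm))
        have h1 : a ∈ X ⊓ (M ⊔ E) := ⟨ha, by
          rw [show a = m * e⁻¹ by rw [← hae, mul_inv_cancel_right]]
          exact mul_mem (mem_sup_left hm) (Subgroup.inv_mem _ (mem_sup_right he))⟩
        rw [← hae]
        exact mul_mem (mem_sup_left (h h1)) (mem_sup_right he)
    · intro hd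
      have h1 : p ^ 4 ∣ Nat.card E * Nat.card X :=
        (hd.trans (card_dvd_of_le (hX2XE.trans (le_of_eq (sup_comm X E))))).trans (card_sup_dvd_mul E X)
      exact D.small ((Nat.Coprime.pow_left 4 ((Nat.Prime.coprime_iff_not_dvd hp).2 hco)).dvd_of_dvd_mul_left h1)
  have hR0p : IsPGroup r R0 := R.2.map _
  have hC := D2.centralizes_rankTwo hp2 hr2 hrp hR0p
    (Cfsg.Lib.OddP.pRankLE_of_injective R0.subtype (Subgroup.subtype_injective _) (hrk r Fact.out hr2))
    (sup_le (hX2le.trans inf_le_right) inf_le_left)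
  -- conjugate `P` into `X2`
  set W := X ⊔ E with hW
  obtain ⟨S2⟩ := (inferInstance : Nonempty (Sylow p X2))
  set P2 := (S2 : Subgroup X2).map X2.subtype with hP2
  have hP2W : P2 ≤ W := (map_subtype_le _).trans hX2XE
  have hP2card : Nat.card P2 = p ^ (Nat.card W).factorization p := by
    have h1 : Nat.card W ∣ Nat.card E * Nat.card X2 :=
      (card_dvd_of_le (hlift.trans (le_of_eq (sup_comm X2 E)))).trans (card_sup_dvd_mul E X2)
    have h2 : p ^ (Nat.card W).factorization p ∣ Nat.card X2 :=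
      (Nat.Coprime.pow_left _ ((Nat.Prime.coprime_iff_not_dvd hp).2 hco)).dvd_of_dvd_mul_left
        ((Nat.ordProj_dvd _ _).trans h1)
    rw [hP2, card_map_of_injective X2.subtype_injective, S2.card_eq_multiplicity]
    congr 1
    refine le_antisymm ?_ ((Nat.Prime.pow_dvd_iff_le_factorization hp Nat.card_pos.ne').1 h2)
    exact (Nat.Prime.pow_dvd_iff_le_factorization hp Nat.card_pos.ne').1
      ((Nat.ordProj_dvd _ _).trans (card_dvd_of_le hX2XE))
  let SW : Sylow p W := Sylow.ofCard (P2.subgroupOf W) (by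
    rw [Nat.card_congr (subgroupOfEquivOfLe hP2W).toEquiv, hP2card])
  have hPW : IsPGroup p (P.subgroupOf W) := hP.of_equiv (subgroupOfEquivOfLe (hPX.trans le_sup_left)).symm
  obtain ⟨SP, hSP⟩ := hPW.exists_le_sylow
  obtain ⟨g, hg⟩ := MulAction.exists_smul_eq W SW SP
  have hconj : P ≤ Cfsg.Lib.Coprime.conjMap (g : Y) P2 := by
    have h := congrArg (fun S : Sylow p W => (S : Subgroup W).map W.subtype) hg
    simp only [Cfsg.Lib.Coprime.map_subtype_smul, SW, Sylow.coe_ofCard] at h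
    rw [map_subgroupOf_eq_of_le hP2W] at h
    rw [h, ← map_subgroupOf_eq_of_le (hPX.trans le_sup_left : P ≤ W)]
    exact Subgroup.map_mono hSP
  set R1 := Cfsg.Lib.Coprime.conjMap (g : Y) R0 with hR1
  have hR1E : R1 ≤ E := by
    have h1 := Cfsg.Lib.Coprime.conjMap_mono (g := (g : Y)) (map_subtype_le (R : Subgroup E))
    rwa [Cfsg.Lib.Coprime.conjMap_eq_self (hEall ⊤ (mem_top (g : Y)))] at h1
  refine ⟨Sylow.ofCard (R1.subgroupOf E) (by
    rw [Nat.card_congr (subgroupOfEquivOfLe hR1E).toEquiv, hR1, Cfsg.Lib.Coprime.card_conjMap, hR0,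
      card_map_of_injective E.subtype_injective, R.card_eq_multiplicity]), ?_⟩
  rw [Sylow.coe_ofCard, map_subgroupOf_eq_of_le hR1E]
  intro x hx
  obtain ⟨y, hy, rfl⟩ := hconj hx
  refine mem_centralizer_iff.2 ?_
  rintro _ ⟨z, hz, rfl⟩
  rw [← map_mul, ← map_mul, mem_centralizer_iff.1 (hC (map_subtype_le _ hy)) z hz]

/-- `X` centralises normal subgroups of order prime to `p` -/
theorem XData.centralizes_coprime (D : XData p X T Φ) (hp2 : p ≠ 2)
    (hrk : ∀ r : ℕ, r.Prime → r ≠ 2 → Cfsg.PRankLE r 2 Y) (hO : Cfsg.pCore 2 Y = ⊥) (E : Subgroup Y) [E.Normal]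
    (hco : ¬ p ∣ Nat.card E) : X ≤ centralizer (E : Set Y) := by
  classical
  have hp : p.Prime := Fact.out
  haveI : Fact (Nat.Prime 2) := ⟨Nat.prime_two⟩
  refine D.gen.trans ((closure_le _).2 ?_)
  rintro a ⟨ha, k, hk⟩
  set A := zpowers a with hA
  have hAp : IsPGroup p A := IsPGroup.of_card_dvd_pow (n := k) (by
    rw [hA, Nat.card_zpowers]; exact orderOf_dvd_of_pow_eq_one hk)
  have hAE : A ≤ normalizer (E : Set Y) := by rw [normalizer_eq_top]; exact le_top
  have hcop : (Nat.card A).Coprime (Nat.card E) := by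
    obtain ⟨j, hj⟩ := hAp.exists_card_eq
    rw [hj]
    exact ((Nat.Prime.coprime_iff_not_dvd hp).2 hco).pow_left j
  obtain ⟨W2, hW2⟩ := Cfsg.Lib.Coprime.exists_invariant_sylow hAE hcop (Or.inl inferInstance) 2
  set W := (W2 : Subgroup E).map E.subtype with hW
  set C := centralizer (A : Set Y) with hC
  -- `E = W C`
  have hidx : ∀ r : ℕ, r.Prime → r ≠ 2 → ¬ r ∣ (C.subgroupOf E).index := by
    intro r hr hr2
    haveI := Fact.mk hr
    by_cases hrp : r = p
    · subst hrp
      exact fun h => hco (h.trans (index_dvd_card _))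
    obtain ⟨R, hR⟩ := D.centralizes_sylow hp2 hrk E hco (zpowers_le.2 ha) hAp hr2 hrp
    intro h
    refine R.not_dvd_index (h.trans (index_dvd_of_le fun x hx => ?_))
    exact (le_centralizer_iff.1 hR) (mem_map_of_mem _ hx)
  have hWC : ∀ e ∈ E, ∃ w ∈ W, ∃ c ∈ C, w * c = e := by
    set C' := C.subgroupOf E
    set B := C'.subgroupOf (W2 : Subgroup E)
    have hcard : Nat.card (E ⧸ C') ≤ Nat.card ((W2 : Subgroup E) ⧸ B) := by
      rw [← index_eq_card, ← index_eq_card]
      obtain ⟨s, hs⟩ : ∃ s, C'.index = 2 ^ s := ⟨_, Nat.eq_prime_pow_of_unique_prime_dvd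
        index_ne_zero_of_finite fun {d} hd hdd => by_contra fun hne => hidx d hd hne hdd⟩
      have hB : IsPGroup 2 B := (W2.2.to_subgroup B)
      obtain ⟨t, ht⟩ := hB.exists_card_eq
      have h1 : 2 ^ t ∣ Nat.card C' := by
        rw [← ht, ← card_map_of_injective (W2 : Subgroup E).subtype_injective, subgroupOf_map_subtype]
        exact card_dvd_of_le inf_le_left
      have h2 : 2 ^ (t + s) ∣ 2 ^ (Nat.card E).factorization 2 := by
        refine pow_dvd_pow 2 ((Nat.Prime.pow_dvd_iff_le_factorization Nat.prime_two Nat.card_pos.ne').1 ?_)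
        rw [← C'.card_mul_index, pow_add, hs]
        exact Nat.mul_dvd_mul_right h1 _
      have h3 := B.card_mul_index
      rw [W2.card_eq_multiplicity, ht] at h3
      rw [← h3, pow_add] at h2
      rw [hs]
      exact Nat.le_of_dvd (Nat.pos_of_ne_zero index_ne_zero_of_finite)
        (Nat.dvd_of_mul_dvd_mul_left (pow_pos two_pos t) h2)
    let f : (W2 : Subgroup E) ⧸ B → E ⧸ C' := Quotient.map' Subtype.val fun x y h => by
      rw [QuotientGroup.leftRel_apply] at h ⊢
      exact h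
    have hf : Function.Injective f := by
      intro x y
      refine Quotient.inductionOn₂' x y fun a b h => ?_
      refine Quotient.sound' ?_
      rw [QuotientGroup.leftRel_apply]
      have h' := Quotient.exact' h
      rw [QuotientGroup.leftRel_apply] at h'
      exact h'
    have hsurj := (Function.Injective.bijective_of_nat_card_le hf hcard).2
    intro e he
    obtain ⟨q, hq⟩ := hsurj ((⟨e, he⟩ : E) : E ⧸ C')
    obtain ⟨w, rfl⟩ := Quotient.exists_rep q
    refine ⟨(w : E), mem_map_of_mem _ w.2, ((w : E) : Y)⁻¹ * e, ?_, mul_inv_cancel_left _ _⟩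
    have h1 := QuotientGroup.eq.1 (show (((w : E)) : E ⧸ C') = ((⟨e, he⟩ : E) : E ⧸ C') from hq)
    exact h1
  have hcomm : ⁅E, A⁆ ≤ W := by
    rw [commutator_le]
    intro e he b hb
    obtain ⟨w, hw, c, hc, rfl⟩ := hWC e he
    have hcb : c * b = b * c := (mem_centralizer_iff.1 hc b hb).symm
    rw [commutatorElement_def, show w * c * b * (w * c)⁻¹ * b⁻¹ = w * (c * b * c⁻¹) * w⁻¹ * b⁻¹ by group,
      show c * b * c⁻¹ = b by rw [hcb, mul_inv_cancel_right],
      show w * b * w⁻¹ * b⁻¹ = w * (b * w⁻¹ * b⁻¹) by group]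
    exact mul_mem hw ((mem_normalizer_iff.1 (hW2 hb) _).1 (Subgroup.inv_mem _ hw))
  have hsn : ⁅E, A⁆.IsSubnormal := isSubnormal_of_normal_in (inferInstance : E.Normal).isSubnormal
    (hcomm.trans (map_subtype_le _)) (normalizer_commutator_ge_left E A)
  have h1 := le_pCore_of_subnormal hsn ((W2.2.map E.subtype).to_le hcomm)
  rw [hO, le_bot_iff, commutator_eq_bot_iff_le_centralizer, le_centralizer_iff] at h1
  exact h1 (mem_zpowers a)

end Cfsg.Lib.QTSolUniq
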