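import Cfsg.Agent.QTKE.SolUniq.PTools
import Cfsg.Agent.OutSol.Residual
import Cfsg.Agent.Components.LocalBalance
import Cfsg.Agent.Components.Misc.Kieler
import Mathlib.GroupTheory.Transfer

/-!
A perfect normal subgroup of order divisible by `p` leaves no room for two further dimensions at `p`.
-/

set_option autoImplicit false
set_option linter.unusedSectionVars false
set_option linter.style.haveILetI false

namespace Cfsg.Lib.QTSolUniq

open Subgroup
open scoped commutatorElement

universe u

variable {Y : Type u} [Group Y] [Finite Y] {p : ℕ} [Fact p.Prime]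

theorem false_of_dvd (hp2 : p ≠ 2) (hr : Cfsg.PRankLE p 2 Y) (E : Subgroup Y) [E.Normal] (hperf : ⁅E, E⁆ = E)
    {P0 : Subgroup Y} (hP0 : IsPGroup p P0) (hexp : ∀ x ∈ P0, x ^ p = 1)
    (hidx : p ^ 2 * Nat.card (P0 ⊓ E : Subgroup Y) ≤ Nat.card P0) (hdvd : p ∣ Nat.card E) : False := by
  classical
  have hp : p.Prime := Fact.out
  have hrT : Cfsg.PRankLE p 2 (⊤ : Subgroup Y) :=
    Cfsg.Lib.OddP.pRankLE_of_injective (⊤ : Subgroup Y).subtype (Subgroup.subtype_injective _) hr
  set U := E ⊔ P0 with hU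
  -- a Sylow subgroup of `U` over `P0`
  have hP0U : IsPGroup p (P0.subgroupOf U) := hP0.of_equiv (subgroupOfEquivOfLe le_sup_right).symm
  obtain ⟨SU, hSU⟩ := hP0U.exists_le_sylow
  set W := (SU : Subgroup U).map U.subtype with hW
  have hWp : IsPGroup p W := SU.2.map _
  have hWU : W ≤ U := map_subtype_le _
  have hP0W : P0 ≤ W := by
    rw [← map_subgroupOf_eq_of_le (le_sup_right : P0 ≤ U)]
    exact Subgroup.map_mono hSU
  set N := W ⊓ E with hN
  have hNp : IsPGroup p N := hWp.to_le inf_le_left
  have hWN : W ≤ normalizer (N : Set Y) :=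
    Cfsg.Lib.Coprime.le_normalizer_inf le_normalizer (by rw [normalizer_eq_top]; exact le_top)
  -- `W = N P0`
  have hWdec : ∀ w ∈ W, ∃ n ∈ N, ∃ x ∈ P0, n * x = w := by
    intro w hw
    obtain ⟨e, he, x, hx, rfl⟩ := mem_sup_of_normal_left.1 (hWU hw)
    exact ⟨e, ⟨by simpa using mul_mem hw (Subgroup.inv_mem _ (hP0W hx)), he⟩, x, hx, rfl⟩
  -- `N` is a Sylow subgroup of `E`
  haveI : (E.subgroupOf U).Normal := inferInstance
  have hNdvd : ¬ p ∣ N.relIndex E := by
    intro h
    have h1 : N.relIndex E = W.relIndex E := by rw [hN, inf_relIndex_right]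
    have h2 : W.relIndex E = (SU : Subgroup U).relIndex (E.subgroupOf U) := by
      rw [← relIndex_subgroupOf (le_sup_left : E ≤ U), hW, subgroupOf, comap_map_eq_self_of_injective U.subtype_injective]
    obtain ⟨TL, hTL⟩ := Cfsg.Lib.Kieler.exists_sylow_of_subnormal SU
      (inferInstance : (E.subgroupOf U).Normal).isSubnormal
    refine TL.not_dvd_index ?_
    rw [hTL, ← relIndex, ← h2, ← h1]
    exact h
  have hNE : N ≤ E := inf_le_right
  have hN1 : N ≠ ⊥ := fun h => hNdvd (by rwa [h, relIndex_bot_left])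
  by_cases hcyc : IsCyclic N
  swap
  · -- noncyclic
    obtain ⟨Dc, hDc, hDexp, hDcard⟩ := exists_exponent_noncyclic hp2 hNp hcyc
    set D := Dc.map N.subtype with hD
    have hDW : D ≤ W := (map_subtype_le Dc).trans inf_le_left
    haveI : (D.subgroupOf W).Normal :=
      normal_subgroupOf_of_le_normalizer (hWN.trans (Cfsg.Lib.OddP.le_normalizer_map_of_char Dc))
    obtain ⟨A, hAn, hAD, hA2, hA⟩ : ∃ A : Subgroup W, A.Normal ∧ A ≤ D.subgroupOf W ∧
        Cfsg.IsElementaryAbelian p A ∧ Nat.card A = p ^ 2 := by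
      have hc : p ^ 2 ≤ Nat.card (D.subgroupOf W) := by
        rw [Nat.card_congr (subgroupOfEquivOfLe hDW).toEquiv, hD, card_map_of_injective N.subtype_injective]
        exact hDcard
      obtain ⟨A, hA1, hA2, hA3⟩ := exists_normal_sq_le hWp (D.subgroupOf W) hc (by
        intro x hx
        obtain ⟨y, hy, e⟩ := mem_subgroupOf.1 hx
        exact Subtype.ext (by show (x : Y) ^ p = 1; rw [← e, ← map_pow, hDexp y hy, map_one]))
      exact ⟨A, hA1, hA2, hA3⟩
    haveI := hAn
    have h1 := card_le_mul_centralizer hWp A hA (P0.subgroupOf W)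
    rw [Nat.card_congr (subgroupOfEquivOfLe hP0W).toEquiv] at h1
    obtain ⟨x, hx, hxE⟩ : ∃ x ∈ P0.subgroupOf W ⊓ centralizer (A : Set W), (x : Y) ∉ E := by
      by_contra hno
      push Not at hno
      have hle : (P0.subgroupOf W ⊓ centralizer (A : Set W) : Subgroup W) ≤ (P0 ⊓ E).subgroupOf W :=
        fun x hx => ⟨hx.1, hno x hx⟩
      have h2 := Subgroup.card_le_of_le hle
      rw [Nat.card_congr (subgroupOfEquivOfLe ((inf_le_left : P0 ⊓ E ≤ P0).trans hP0W)).toEquiv] at h2
      have h3 : 0 < Nat.card (P0 ⊓ E : Subgroup Y) := Nat.card_pos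
      nlinarith [Nat.mul_le_mul_left p h2, hp.two_le, Nat.mul_lt_mul_of_pos_right (lt_self_pow₀ hp.one_lt one_lt_two) h3]
    set B := A.map W.subtype with hB
    have hBE : B ≤ E := by
      rintro _ ⟨a, ha, rfl⟩
      exact hNE (map_subtype_le Dc (hAD ha))
    refine false_of_three hrT (B := B) le_top ?_ ?_ ?_ (mem_top (x : Y)) (hexp _ hx.1) (fun h => hxE (hBE h)) ?_
    · rintro _ ⟨a, ha, rfl⟩ _ ⟨b, hb, rfl⟩
      exact congrArg (fun z : A => ((z.1 : W) : Y)) (hA2.1.is_comm.comm ⟨a, ha⟩ ⟨b, hb⟩)
    · rintro _ ⟨a, ha, rfl⟩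
      rw [← map_pow, hA2.2 a ha, map_one]
    · rw [hB, card_map_of_injective W.subtype_injective, hA]
    · rintro _ ⟨a, ha, rfl⟩
      exact congrArg Subtype.val (mem_centralizer_iff.1 hx.2 a ha)
  -- cyclic
  haveI := hcyc
  obtain ⟨z, hz⟩ := exists_prime_orderOf_dvd_card' (G := N) p
    ((hNp.exists_card_eq).elim fun k hk => hk ▸ dvd_pow_self p (fun h0 => hN1 (card_eq_one.1 (by rw [hk, h0, pow_zero]))))
  set Z := zpowers (z : Y) with hZ
  have hZc : Nat.card Z = p := by rw [hZ, Nat.card_zpowers, orderOf_coe, hz]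
  have hZN : Z ≤ N := zpowers_le.2 z.2
  have huniq : ∀ f ∈ N, f ≠ 1 → (z : Y) ∈ zpowers f := by
    intro f hf hf1
    obtain ⟨k, hk⟩ := hNp ⟨f, hf⟩
    have hord : p ∣ orderOf f := by
      obtain ⟨j, -, hj⟩ := (Nat.dvd_prime_pow hp).1 (orderOf_dvd_of_pow_eq_one (congrArg Subtype.val hk : f ^ p ^ k = 1))
      rw [hj]
      exact dvd_pow_self p fun h0 => hf1 (orderOf_eq_one_iff.1 (by rw [hj, h0, pow_zero]))
    have h1 : Nat.card (zpowers (f ^ (orderOf f / p))) = p := by
      rw [Nat.card_zpowers, orderOf_pow_orderOf_div (orderOf_pos f).ne' hord]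
    have h2 : zpowers (f ^ (orderOf f / p)) = Z :=
      Cfsg.Lib.SolvStruct.CyclicProduct.eq_of_card_eq_of_isCyclic (A := N) (zpowers_le.2 (pow_mem hf _)) hZN
        (by rw [h1, hZc])
    exact (zpowers_le.2 (pow_mem (mem_zpowers f) _) : zpowers (f ^ (orderOf f / p)) ≤ zpowers f)
      (h2.ge (mem_zpowers _))
  -- `Z` is central in `W`
  have hWZ : W ≤ centralizer (Z : Set Y) := by
    haveI : (Z.subgroupOf W).Normal := by
      refine normal_subgroupOf_of_le_normalizer fun w hw => ?_
      refine Cfsg.Lib.Coprime.conjMap_eq_self_iff.1 ?_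
      rw [Cfsg.Lib.Coprime.conjMap, hZ, MonoidHom.map_zpowers]
      have h1 : w * z * w⁻¹ ∈ N := (mem_normalizer_iff.1 (hWN hw) z).1 z.2
      refine (eq_of_le_of_card_ge (zpowers_le.2 (huniq _ h1 fun h => ?_)) ?_).symm
      · have : (z : Y) = 1 := by simpa using h
        rw [← orderOf_coe, this, orderOf_one] at hz
        exact hp.ne_one hz.symm
      · rw [Nat.card_zpowers, ← MulAut.conj_apply, MulEquiv.orderOf_eq, orderOf_coe, hz]
        exact le_of_eq hZc.symm
    have hc := Cfsg.Lib.PGroups.le_center_of_card_eq_prime hWp (N := Z.subgroupOf W)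
      (by rw [Nat.card_congr (subgroupOfEquivOfLe (hZN.trans inf_le_left)).toEquiv, hZc])
    intro w hw
    refine mem_centralizer_iff.2 fun y hy => ?_
    exact congrArg Subtype.val
      (mem_center_iff.1 (hc (show (⟨y, (hZN hy).1⟩ : W) ∈ Z.subgroupOf W from hy)) ⟨w, hw⟩).symm
  -- coprime elements of `E` normalising `W` fix `z`
  have hfix : ∀ e ∈ E, e ∈ normalizer (W : Set Y) → e * z = z * e := by
    intro e he heW
    set a := e ^ p ^ (orderOf e).factorization p with ha
    have hacop : (orderOf a).Coprime p := by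
      rw [ha, orderOf_pow_of_dvd (pow_ne_zero _ hp.ne_zero) (Nat.ordProj_dvd _ _)]
      exact (Nat.coprime_ordCompl hp (orderOf_pos e).ne').symm
    have haE : a ∈ E := pow_mem he _
    have haN : zpowers a ≤ normalizer (N : Set Y) := by
      rw [zpowers_le]
      refine pow_mem (Cfsg.Lib.Coprime.le_normalizer_inf (H := zpowers e) (zpowers_le.2 heW)
        (by rw [normalizer_eq_top]; exact le_top) (mem_zpowers e)) _
    have hcopN : (Nat.card (zpowers a)).Coprime (Nat.card N) := by
      obtain ⟨j, hj⟩ := hNp.exists_card_eq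
      rw [Nat.card_zpowers, hj]
      exact hacop.pow_right j
    -- a fixed element in each coset
    set F := W ⊓ centralizer (zpowers a : Set Y) with hF
    have hcov : ∀ x ∈ P0, ∃ n ∈ N, x * n ∈ F := by
      intro x hx
      obtain ⟨n, hn, hc⟩ := Cfsg.Lib.Coprime.exists_fixed_in_coset haN hcopN (Or.inl inferInstance) (k := x)
        (fun b hb => by
          have hbE : b ∈ E := (zpowers_le.2 haE) hb
          have hbW : b ∈ normalizer (W : Set Y) := (zpowers_le.2 (pow_mem heW _)) hb
          refine ⟨?_, ?_⟩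
          · rw [show x⁻¹ * b * x * b⁻¹ = x⁻¹ * (b * x * b⁻¹) by group]
            exact mul_mem (Subgroup.inv_mem _ (hP0W hx)) ((mem_normalizer_iff.1 hbW x).1 (hP0W hx))
          · exact mul_mem ((inferInstance : E.Normal).conj_mem b hbE x⁻¹ |> fun h => by simpa using h)
              (Subgroup.inv_mem _ hbE))
      exact ⟨n, hn, mul_mem (hP0W hx) (inf_le_left (b := E) hn), hc⟩
    have hza : a * z = z * a := by
      by_cases hFN : F ⊓ N = ⊥
      · exfalso
        have hFexp : ∀ f ∈ F, f ^ p = 1 := by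
          intro f hf
          obtain ⟨n, hn, x, hx, e'⟩ := hWdec f hf.1
          have h1 : (f ^ p : Y) ∈ N := by
            refine ⟨pow_mem hf.1 p, (QuotientGroup.eq_one_iff _).1 ?_⟩
            rw [← e', QuotientGroup.mk_pow, QuotientGroup.mk_mul, (QuotientGroup.eq_one_iff n).2 (hNE hn), one_mul,
              ← QuotientGroup.mk_pow, hexp x hx, QuotientGroup.mk_one]
          exact mem_bot.1 (hFN.le ⟨pow_mem hf p, h1⟩)
        have hFcard : p ^ 2 ≤ Nat.card F := by
          choose n hn hnF using hcov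
          let f : P0 ⧸ (P0 ⊓ E).subgroupOf P0 → F := fun q => ⟨_, hnF q.out q.out.2⟩
          have hf : Function.Injective f := by
            intro q r h
            have h1 : (q.out : Y) * n q.out q.out.2 = r.out * n r.out r.out.2 := congrArg Subtype.val h
            rw [← q.out_eq', ← r.out_eq', QuotientGroup.eq]
            refine mem_subgroupOf.2 ⟨(q.out⁻¹ * r.out).2, ?_⟩
            show (q.out : Y)⁻¹ * r.out ∈ E
            rw [show (q.out : Y)⁻¹ * r.out = n q.out q.out.2 * (n r.out r.out.2)⁻¹ by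
              rw [eq_mul_inv_iff_mul_eq, mul_assoc, ← h1]; group]
            exact mul_mem (hNE (hn _ _)) (Subgroup.inv_mem _ (hNE (hn _ _)))
          refine le_trans ?_ (Nat.card_le_card_of_injective f hf)
          refine Nat.le_of_mul_le_mul_right ?_ (Nat.card_pos (α := (P0 ⊓ E : Subgroup Y)))
          have h2 := card_eq_card_quotient_mul_card_subgroup ((P0 ⊓ E).subgroupOf P0)
          rw [Nat.card_congr (subgroupOfEquivOfLe (inf_le_left : P0 ⊓ E ≤ P0)).toEquiv] at h2
          rw [← h2]
          exact hidx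
        obtain ⟨A, hAF, hA, hAc⟩ := exists_commutative_sq hFexp hFcard
        refine false_of_three hrT le_top hAc (fun b hb => hFexp b (hAF hb)) hA.ge (mem_top (z : Y))
          (by rw [← hz, ← orderOf_coe, pow_orderOf_eq_one]) (fun h => ?_)
          (fun b hb => (mem_centralizer_iff.1 (hWZ (hAF hb).1) z (mem_zpowers _)).symm)
        have h0 := hFN.le ⟨hAF h, z.2⟩
        rw [mem_bot] at h0
        rw [← orderOf_coe, h0, orderOf_one] at hz
        exact hp.ne_one hz.symm
      · obtain ⟨f, hf, hf1⟩ := (Subgroup.bot_or_exists_ne_one (F ⊓ N)).resolve_left hFN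
        obtain ⟨m, hm⟩ := mem_zpowers_iff.1 (huniq f hf.2 hf1)
        rw [← hm]
        exact ((show Commute a f from mem_centralizer_iff.1 hf.1.2 a (mem_zpowers a)).zpow_right m).eq
    -- the `p`-part acts trivially on a group of order `p`
    have heZ : e ∈ normalizer (Z : Set Y) := by
      refine Cfsg.Lib.Coprime.conjMap_eq_self_iff.1 ?_
      rw [Cfsg.Lib.Coprime.conjMap, hZ, MonoidHom.map_zpowers]
      have h1 : e * z * e⁻¹ ∈ N := (mem_normalizer_iff.1
        (Cfsg.Lib.Coprime.le_normalizer_inf (H := zpowers e) (zpowers_le.2 heW)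
          (by rw [normalizer_eq_top]; exact le_top) (mem_zpowers e)) z).1 z.2
      refine (eq_of_le_of_card_ge (zpowers_le.2 (huniq _ h1 fun h => ?_)) ?_).symm
      · have : (z : Y) = 1 := by simpa using h
        rw [← orderOf_coe, this, orderOf_one] at hz
        exact hp.ne_one hz.symm
      · rw [Nat.card_zpowers, ← MulAut.conj_apply, MulEquiv.orderOf_eq, orderOf_coe, hz]
        exact le_of_eq hZc.symm
    set φ := Z.normalizerMonoidHom ⟨e, heZ⟩ with hφ
    haveI := Cfsg.Lib.QTUniq.isCyclic_mulAut_of_card hp hZc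
    haveI : Finite (MulAut Z) := Finite.of_injective (fun e => (e : Z → Z)) DFunLike.coe_injective
    have hφ1 : φ ^ p ^ (orderOf e).factorization p = 1 := by
      rw [hφ, ← map_pow]
      refine MulEquiv.ext fun y => Subtype.ext ?_
      show a * y * a⁻¹ = y
      obtain ⟨m, hm⟩ := mem_zpowers_iff.1 y.2
      rw [← hm, ((show Commute a (z : Y) from hza).zpow_right m).eq, mul_inv_cancel_right]
    have hφc : (orderOf φ).Coprime p := by
      refine Nat.Coprime.coprime_dvd_left (orderOf_dvd_natCard φ) ?_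
      haveI : IsCyclic Z := isCyclic_of_prime_card hZc
      rw [IsCyclic.card_mulAut, hZc, Nat.totient_prime hp, Nat.coprime_comm,
        Nat.Prime.coprime_iff_not_dvd hp]
      exact fun hd => absurd (Nat.le_of_dvd (Nat.sub_pos_of_lt hp.one_lt) hd) (by have := hp.two_le; omega)
    have hφe : φ = 1 := orderOf_eq_one_iff.1 (Nat.eq_one_of_dvd_coprimes (hφc.pow_right _) dvd_rfl
      (orderOf_dvd_of_pow_eq_one hφ1))
    have := congrArg (fun ψ : MulAut Z => ((ψ ⟨z, mem_zpowers _⟩ : Z) : Y)) hφe
    exact mul_inv_eq_iff_eq_mul.1 this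
  -- the normaliser of `N` in `E` centralises `z`
  have hNE' : ∀ g ∈ E, g ∈ normalizer (N : Set Y) → g * z = z * g := by
    intro g hg hgN
    set C := U ⊓ normalizer (N : Set Y) ⊓ centralizer (Z : Set Y) with hC
    have hWC : W ≤ C := le_inf (le_inf hWU hWN) hWZ
    have hgZ : g ∈ normalizer (Z : Set Y) := by
      refine Cfsg.Lib.Coprime.conjMap_eq_self_iff.1 ?_
      rw [Cfsg.Lib.Coprime.conjMap, hZ, MonoidHom.map_zpowers]
      have h1 : g * z * g⁻¹ ∈ N := (mem_normalizer_iff.1 hgN z).1 z.2
      refine (eq_of_le_of_card_ge (zpowers_le.2 (huniq _ h1 fun h => ?_)) ?_).symm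
      · have : (z : Y) = 1 := by simpa using h
        rw [← orderOf_coe, this, orderOf_one] at hz
        exact hp.ne_one hz.symm
      · rw [Nat.card_zpowers, ← MulAut.conj_apply, MulEquiv.orderOf_eq, orderOf_coe, hz]
        exact le_of_eq hZc.symm
    have hgU : g ∈ U := mem_sup_left hg
    have hgC : g ∈ normalizer (C : Set Y) := by
      have h1 : zpowers g ≤ normalizer (C : Set Y) :=
        Cfsg.Lib.Coprime.le_normalizer_inf (Cfsg.Lib.Coprime.le_normalizer_inf
          (zpowers_le.2 (le_normalizer hgU)) (zpowers_le.2 (le_normalizer hgN)))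
          (zpowers_le.2 (Cfsg.Lib.Components.normalizer_le_normalizer_centralizer' Z hgZ))
      exact h1 (mem_zpowers g)
    have hle : Cfsg.Lib.Coprime.conjMap g W ≤ C := by
      have := Cfsg.Lib.Coprime.conjMap_mono (g := g) hWC
      rwa [Cfsg.Lib.Coprime.conjMap_eq_self hgC] at this
    have hCU : C ≤ U := inf_le_left.trans inf_le_left
    have hWcard : Nat.card W = p ^ (Nat.card C).factorization p := by
      have h1 : ¬ p ∣ (W.subgroupOf C).index := by
        intro h
        refine SU.not_dvd_index (h.trans ?_)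
        have h2 : (W.subgroupOf C).index = (SU : Subgroup U).relIndex (C.subgroupOf U) := by
          rw [← relIndex, ← relIndex_subgroupOf hCU, hW, subgroupOf, comap_map_eq_self_of_injective U.subtype_injective]
        rw [h2]
        exact relIndex_dvd_index_of_le (fun x hx => hWC (mem_map_of_mem _ hx))
      have h2 := ((hWp.of_equiv (subgroupOfEquivOfLe hWC).symm).toSylow h1).card_eq_multiplicity
      rwa [IsPGroup.toSylow_coe, Nat.card_congr (subgroupOfEquivOfLe hWC).toEquiv] at h2
    let S1 : Sylow p C := Sylow.ofCard (W.subgroupOf C) (by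
      rw [Nat.card_congr (subgroupOfEquivOfLe hWC).toEquiv, hWcard])
    let S2 : Sylow p C := Sylow.ofCard ((Cfsg.Lib.Coprime.conjMap g W).subgroupOf C) (by
      rw [Nat.card_congr (subgroupOfEquivOfLe hle).toEquiv, Cfsg.Lib.Coprime.card_conjMap, hWcard])
    obtain ⟨c, hc⟩ := MulAction.exists_smul_eq C S2 S1
    have hcg : (c : Y) * g ∈ normalizer (W : Set Y) := by
      refine Cfsg.Lib.Coprime.conjMap_eq_self_iff.1 ?_
      have h := congrArg (fun S : Sylow p C => (S : Subgroup C).map C.subtype) hc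
      simp only [Cfsg.Lib.Coprime.map_subtype_smul] at h
      simp only [S1, S2, Sylow.coe_ofCard] at h
      rw [map_subgroupOf_eq_of_le hWC, map_subgroupOf_eq_of_le hle, Cfsg.Lib.Coprime.conjMap_mul] at h
      exact h
    obtain ⟨e, he, x, hx, hex⟩ := mem_sup_of_normal_left.1 (mul_mem (hCU c.2) hgU)
    have heW : e ∈ normalizer (W : Set Y) := by
      rw [show e = (c : Y) * g * x⁻¹ by rw [← hex, mul_inv_cancel_right]]
      exact mul_mem hcg (le_normalizer (Subgroup.inv_mem _ (hP0W hx)))
    have h1 : Commute e (z : Y) := hfix e he heW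
    have h2 : Commute x (z : Y) := (mem_centralizer_iff.1 (hWZ (hP0W hx)) z (mem_zpowers _)).symm
    have h3 : Commute (c : Y) (z : Y) := (mem_centralizer_iff.1 c.2.2 z (mem_zpowers _)).symm
    have h4 := (h3.inv_left.mul_left (h1.mul_left h2))
    rw [hex, inv_mul_cancel_left] at h4
    exact h4.eq
  -- transfer
  set NE := N.subgroupOf E with hNEdef
  have hNEp : IsPGroup p NE := hNp.of_equiv (subgroupOfEquivOfLe hNE).symm
  set P : Sylow p E := hNEp.toSylow hNdvd with hP
  have hPco : (P : Subgroup E) = NE := IsPGroup.toSylow_coe hNEp hNdvd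
  haveI : IsCyclic NE := isCyclic_of_surjective (subgroupOfEquivOfLe hNE).symm (MulEquiv.surjective _)
  letI : CommGroup NE := IsCyclic.commGroup
  have hburn : normalizer ((P : Subgroup E) : Set E) ≤ centralizer ((P : Subgroup E) : Set E) := by
    rw [hPco]
    intro g hg
    have hgN : (g : Y) ∈ normalizer (N : Set Y) := by
      rw [← map_subgroupOf_eq_of_le hNE]
      exact le_normalizer_map E.subtype ⟨g, hg, rfl⟩
    -- split off the `p`-part
    set k := (orderOf g).factorization p with hk
    set m := orderOf g / p ^ k with hm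
    have hcopm : Nat.Coprime (p ^ k) m := (Nat.coprime_ordCompl Fact.out (orderOf_pos g).ne').pow_left k
    have hsub : zpowers g ≤ centralizer (NE : Set E) := by
      obtain ⟨s, t, hst⟩ := Int.isCoprime_iff_gcd_eq_one.2 (by rw [Int.gcd_natCast_natCast]; exact hcopm)
      have e1 : g = (g ^ (p ^ k)) ^ s * (g ^ m) ^ t := by
        rw [← zpow_natCast g (p ^ k), ← zpow_natCast g m, ← zpow_mul, ← zpow_mul, ← zpow_add,
          mul_comm ((p ^ k : ℕ) : ℤ), mul_comm (m : ℤ), hst, zpow_one]
      rw [zpowers_le, e1]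
      refine mul_mem (zpow_mem ?_ _) (zpow_mem ?_ _)
      · -- coprime part
        have hord : (Nat.card (zpowers ((g : Y) ^ p ^ k))).Coprime p := by
          rw [Nat.card_zpowers, ← SubgroupClass.coe_pow, orderOf_coe,
            orderOf_pow_of_dvd (pow_ne_zero _ hp.ne_zero) (Nat.ordProj_dvd _ _)]
          exact (Nat.coprime_ordCompl hp (orderOf_pos g).ne').symm
        have h := Cfsg.Lib.GaschutzYen.le_centralizer_of_omega hp2 _ rfl hNp
          (zpowers_le.2 (pow_mem hgN _)) hord fun q hq hqp r hr => by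
            obtain ⟨j, hj⟩ : ∃ j : ℤ, (z : Y) ^ j = q := by
              by_cases hq1 : q = 1
              · exact ⟨0, by rw [hq1, zpow_zero]⟩
              · have hqz : zpowers (z : Y) = zpowers q := eq_of_le_of_card_ge
                  (zpowers_le.2 (huniq q hq hq1)) (by
                    rw [Nat.card_zpowers, Nat.card_zpowers, orderOf_eq_prime hqp hq1, orderOf_coe, hz])
                exact mem_zpowers_iff.1 (hqz.ge (mem_zpowers q))
            obtain ⟨i, rfl⟩ := mem_zpowers_iff.1 hr
            rw [← hj]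
            exact ((((show Commute (g : Y) (z : Y) from hNE' g g.2 hgN).pow_left _).zpow_left i).zpow_right j).eq
        refine mem_centralizer_iff.2 fun y hy => Subtype.ext ?_
        exact mem_centralizer_iff.1 (h (mem_zpowers _)) y (mem_subgroupOf.1 hy)
      · -- `p`-part
        have hpel : IsPGroup p (zpowers (g ^ m)) := by
          refine IsPGroup.of_card_dvd_pow (n := k) ?_
          rw [Nat.card_zpowers]
          refine orderOf_dvd_of_pow_eq_one ?_
          rw [← pow_mul, hm, Nat.div_mul_cancel (Nat.ordProj_dvd _ _), pow_orderOf_eq_one]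
        have hle : zpowers (g ^ m) ≤ normalizer (NE : Set E) := zpowers_le.2 (pow_mem hg _)
        have h2 : IsPGroup p (zpowers (g ^ m) ⊔ NE : Subgroup E) := hpel.to_sup_of_normal_right' hNEp hle
        have h3 : zpowers (g ^ m) ⊔ NE = NE := hPco ▸ P.3 h2 (hPco ▸ le_sup_right)
        have h4 : g ^ m ∈ NE := h3 ▸ mem_sup_left (mem_zpowers _)
        refine mem_centralizer_iff.2 fun y hy => ?_
        exact congrArg Subtype.val (mul_comm (⟨y, hy⟩ : NE) ⟨_, h4⟩)
    exact hsub (mem_zpowers g)
  set f := MonoidHom.transferSylow P hburn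
  haveI : Group.IsPerfect E := Subgroup.isPerfect_iff.2 hperf
  have htop : f.ker = ⊤ := by
    rw [MonoidHom.ker_eq_top_iff]
    refine MonoidHom.ext fun x => Cfsg.Lib.OutSol.perfect_hom_trivial_comm (fun a b => ?_) f x
    have hab := mul_comm (⟨a.1, hPco.le a.2⟩ : NE) ⟨b.1, hPco.le b.2⟩
    exact Subtype.ext (congrArg Subtype.val hab)
  have hc := MonoidHom.ker_transferSylow_isComplement' P hburn
  rw [show (MonoidHom.transferSylow P hburn).ker = ⊤ from htop, isComplement'_top_left, hPco] at hc
  refine hN1 ?_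
  rw [← map_subgroupOf_eq_of_le hNE, ← hNEdef, hc, Subgroup.map_bot]

end Cfsg.Lib.QTSolUniq
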