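import Cfsg.Agent.QTKE.SolUniq.Coprime
import Cfsg.Agent.QTKE.SolUniq.Inner

/-!
In a group with `O₂ = 1` of odd ranks at most two, the configuration is normal or lies in the closure of one
component.
-/

set_option autoImplicit false
set_option linter.unusedSectionVars false
set_option linter.style.haveILetI false

namespace Cfsg.Lib.QTSolUniq

open Subgroup Cfsg.Lib.Components
open scoped commutatorElement

universe u

variable {Y : Type u} [Group Y] [Finite Y] {p : ℕ} [Fact p.Prime] {X T Φ : Subgroup Y}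

/-- `p`-subgroups of the image of a finite group are images of `p`-subgroups -/
theorem exists_pgroup_over {A : Type u} {B : Type u} [Group A] [Finite A] [Group B] (f : A →* B) (E : Subgroup A)
    {Q : Subgroup B} (hQ : IsPGroup p Q) (hle : Q ≤ E.map f) :
    ∃ P ≤ E, IsPGroup p P ∧ Q ≤ P.map f := by
  classical
  set g := f.subgroupMap E
  have hg : Function.Surjective g := f.subgroupMap_surjective E
  haveI : Finite (E.map f) := Finite.of_surjective g hg
  obtain ⟨S, hS⟩ := (hQ.of_equiv (subgroupOfEquivOfLe hle).symm).exists_le_sylow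
  obtain ⟨S', rfl⟩ := Sylow.mapSurjective_surjective hg p S
  refine ⟨(S' : Subgroup E).map E.subtype, map_subtype_le _, S'.2.map _, ?_⟩
  intro x hx
  obtain ⟨y, hy, e⟩ := (Sylow.coe_mapSurjective hg S').le (hS (show (⟨x, hle hx⟩ : E.map f) ∈ Q.subgroupOf _ from hx))
  exact ⟨(y : A), mem_map_of_mem _ hy, congrArg Subtype.val e⟩

/-- the map on `XT` to the automorphisms of `E'` needs a noncyclic `p`-subgroup of `E'` -/
theorem XData.exists_noncyclic_of_not_centralized (D : XData p X T Φ) {E' Er : Subgroup Y}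
    (hn : X ⊔ T ≤ normalizer (E' : Set Y)) (hX : X ≤ E' ⊔ Er) (hcomm : Er ≤ centralizer (E' : Set Y))
    (hne : ¬ X ≤ centralizer (E' : Set Y)) : ∃ P ≤ E', IsPGroup p P ∧ ¬ IsCyclic P := by
  classical
  by_contra hno
  push Not at hno
  set θ := E'.normalizerMonoidHom with hθ
  set f : ↥(X ⊔ T) →* MulAut E' := θ.comp (inclusion hn) with hf
  haveI : Finite (MulAut E') := Finite.of_injective (fun e => (e : E' → E')) DFunLike.coe_injective
  have h1 := D.trivial_of_cyclic f fun Q hQ hQp => by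
    have hle : Q ≤ (⊤ : Subgroup E').map MulAut.conj := by
      refine hQ.trans ?_
      rintro _ ⟨x, hx, rfl⟩
      obtain ⟨e, he, c, hc, hec⟩ := (Cfsg.Lib.Coprime.mem_sup_of_le_normalizer
        (hcomm.trans (centralizer_le_normalizer (E' : Set Y)))).1 (hX (mem_subgroupOf.1 hx))
      refine ⟨⟨e, he⟩, mem_top _, MulEquiv.ext fun y => Subtype.ext ?_⟩
      show e * (y : Y) * e⁻¹ = (x : Y) * y * (x : Y)⁻¹
      rw [← hec]
      calc e * (y : Y) * e⁻¹ = e * ((y : Y) * c) * c⁻¹ * e⁻¹ := by group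
        _ = e * (c * y) * c⁻¹ * e⁻¹ := by rw [mem_centralizer_iff.1 (hcomm hc) y y.2]
        _ = e * c * y * (e * c)⁻¹ := by group
    obtain ⟨P, -, hPp, hQP⟩ := exists_pgroup_over MulAut.conj ⊤ hQp hle
    have hP := hno (P.map E'.subtype) (map_subtype_le _) (hPp.map _)
    haveI : IsCyclic P := isCyclic_of_surjective
      (P.equivMapOfInjective _ E'.subtype_injective).symm (MulEquiv.surjective _)
    exact isCyclic_of_le hQP (isCyclic_of_surjective (MulAut.conj.subgroupMap P) (MonoidHom.subgroupMap_surjective _ _))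
  apply hne
  intro x hx
  have h2 : f ⟨x, mem_sup_left hx⟩ = 1 := MonoidHom.mem_ker.1 (h1 (mem_subgroupOf.2 hx))
  refine mem_centralizer_iff.2 fun y hy => ?_
  exact (mul_inv_eq_iff_eq_mul.1 (congrArg (fun e : MulAut E' => ((e ⟨y, hy⟩ : E') : Y)) h2)).symm

/-- `X` outside `E'` needs a noncyclic `p`-subgroup of the rest -/
theorem XData.exists_noncyclic_of_not_le (D : XData p X T Φ) {E' Er : Subgroup Y}
    (hn : X ⊔ T ≤ normalizer (E' : Set Y)) (hE : E' ⊔ Er ≤ normalizer (E' : Set Y)) (hX : X ≤ E' ⊔ Er)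
    (hne : ¬ X ≤ E') : ∃ P ≤ Er, IsPGroup p P ∧ ¬ IsCyclic P := by
  classical
  by_contra hno
  push Not at hno
  set M := normalizer (E' : Set Y) with hM
  haveI : (E'.subgroupOf M).Normal := normal_subgroupOf_of_le_normalizer le_rfl
  set π := QuotientGroup.mk' (E'.subgroupOf M) with hπ
  set f : ↥(X ⊔ T) →* M ⧸ E'.subgroupOf M := π.comp (inclusion hn) with hf
  have hEr : Er ≤ M := le_sup_right.trans hE
  have h1 := D.trivial_of_cyclic f fun Q hQ hQp => by
    have hle : Q ≤ (Er.subgroupOf M).map π := by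
      refine hQ.trans ?_
      rintro _ ⟨x, hx, rfl⟩
      obtain ⟨e, he, c, hc, hec⟩ :=
        (Cfsg.Lib.Coprime.mem_sup_of_le_normalizer hEr).1 (hX (mem_subgroupOf.1 hx))
      refine ⟨⟨c, hEr hc⟩, hc, ?_⟩
      show π ⟨c, hEr hc⟩ = π (inclusion hn x)
      rw [show inclusion hn x = (⟨e, le_normalizer he⟩ : M) * ⟨c, hEr hc⟩ from Subtype.ext hec.symm, map_mul,
        show π ⟨e, le_normalizer he⟩ = 1 from (QuotientGroup.eq_one_iff _).2 he, one_mul]
    obtain ⟨P, hP, hPp, hQP⟩ := exists_pgroup_over π (Er.subgroupOf M) hQp hle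
    have hPc := hno (P.map M.subtype) (le_of_le_of_eq (Subgroup.map_mono hP) (map_subgroupOf_eq_of_le hEr))
      (hPp.map _)
    haveI : IsCyclic P := isCyclic_of_surjective
      (P.equivMapOfInjective _ M.subtype_injective).symm (MulEquiv.surjective _)
    exact isCyclic_of_le hQP (isCyclic_of_surjective (π.subgroupMap P) (MonoidHom.subgroupMap_surjective _ _))
  apply hne
  intro x hx
  exact mem_subgroupOf.1 ((QuotientGroup.eq_one_iff (inclusion hn ⟨x, mem_sup_left hx⟩)).1
    (MonoidHom.mem_ker.1 (h1 (show (⟨x, mem_sup_left hx⟩ : ↥(X ⊔ T)) ∈ X.subgroupOf (X ⊔ T) from hx)) :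
      π (inclusion hn ⟨x, mem_sup_left hx⟩) = 1))

/-- the configuration is normal, or lies in the closure of a component -/
theorem XData.dichotomy (D : XData p X T Φ) (hp2 : p ≠ 2)
    (hrk : ∀ r : ℕ, r.Prime → r ≠ 2 → Cfsg.PRankLE r 2 Y) (hO : Cfsg.pCore 2 Y = ⊥) :
    X.Normal ∨ ∃ K : Subgroup Y, Cfsg.IsComponent K ∧ X ≤ K ⊔ T := by
  classical
  have hp : p.Prime := Fact.out
  set E := Cfsg.layer Y with hE
  have hall : ∀ A : Subgroup Y, ∀ [A.Normal], X ⊔ T ≤ normalizer (A : Set Y) := fun A _ => by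
    rw [normalizer_eq_top]; exact le_top
  haveI : (centralizer (E : Set Y)).Normal := inferInstance
  rcases D.inf_cases (centralizer (E : Set Y)) (hall _) with h | h
  · exact Or.inl (D.normal_of_le_centralizer hp2 hrk hO h)
  right
  have hcyc := D.isCyclic_pCore hp2 hrk h
  obtain ⟨x0, hx0, hx0p, hx0Φ⟩ := D.exists_elem hp2
  -- `X ≤ E`
  have hXE : X ≤ E := by
    rcases D.inf_cases E (hall _) with hE' | hE'
    · exact hE'
    exfalso
    by_cases hdvd : p ∣ Nat.card E
    · obtain ⟨P, hPX, hPp, hexp, hcard, -⟩ := D.exists_sylow hp2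
      refine false_of_dvd hp2 (hrk p hp hp2) E layer_perfect hPp hexp ?_ hdvd
      rw [hcard]
      exact Nat.mul_le_mul_left _ (Subgroup.card_le_of_le fun y hy => ⟨hy.1, hE' ⟨hPX hy.1, hy.2⟩⟩)
    · exact hx0Φ (h ⟨hx0, D.centralizes_coprime hp2 hrk hO E hdvd hx0⟩)
  obtain ⟨K, hK, hKX⟩ : ∃ K : Subgroup Y, Cfsg.IsComponent K ∧ ¬ X ≤ centralizer (K : Set Y) := by
    by_contra hno
    push Not at hno
    refine hx0Φ (h ⟨hx0, ?_⟩)
    exact (le_centralizer_iff.1 (sSup_le (a := centralizer (X : Set Y))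
      fun L hL => le_centralizer_iff.1 (hno L hL))) hx0
  refine ⟨K, hK, ?_⟩
  set E' := ⨆ t : T, Cfsg.Lib.Coprime.conjMap (t : Y) K with hE'def
  have hE'T : E' ≤ K ⊔ T := iSup_le fun t => by
    rintro _ ⟨k, hk, rfl⟩
    exact mul_mem (mul_mem (mem_sup_right t.2) (mem_sup_left hk)) (Subgroup.inv_mem _ (mem_sup_right t.2))
  refine le_trans ?_ hE'T
  set Er := sSup {L : Subgroup Y | Cfsg.IsComponent L ∧ ∀ t : T, L ≠ Cfsg.Lib.Coprime.conjMap (t : Y) K} with hErdef
  have hKE' : K ≤ E' := by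
    refine le_trans (le_of_eq ?_) (le_iSup _ (1 : T))
    rw [OneMemClass.coe_one, Cfsg.Lib.Coprime.conjMap_one]
  have hE'E : E' ≤ E := iSup_le fun t => comp_le_layer (comp_conj hK (t : Y))
  have hsup : E ≤ E' ⊔ Er := sSup_le fun L hL => by
    by_cases h : ∃ t : T, L = Cfsg.Lib.Coprime.conjMap (t : Y) K
    · obtain ⟨t, rfl⟩ := h
      exact le_sup_of_le_left (le_iSup (fun t : T => Cfsg.Lib.Coprime.conjMap (t : Y) K) t)
    · push Not at h
      exact le_sup_of_le_right (le_sSup ⟨hL, h⟩)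
  have hcomm : Er ≤ centralizer (E' : Set Y) := sSup_le fun L hL => by
    rw [le_centralizer_iff]
    refine iSup_le fun t => ?_
    rw [le_centralizer_iff, ← commutator_eq_bot_iff_le_centralizer]
    exact comp_commute hL.1 (comp_conj hK (t : Y)) (hL.2 t)
  have hEn : E ≤ normalizer (E' : Set Y) := hsup.trans
    (sup_le le_normalizer (hcomm.trans (centralizer_le_normalizer _)))
  have hTn : T ≤ normalizer (E' : Set Y) := by
    intro g hg
    refine Cfsg.Lib.Coprime.conjMap_eq_self_iff.1 (le_antisymm ?_ ?_)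
    · rw [Cfsg.Lib.Coprime.conjMap, Subgroup.map_iSup]
      refine iSup_le fun t => ?_
      refine le_trans (le_of_eq ?_) (le_iSup _ (⟨g, hg⟩ * t : T))
      exact Cfsg.Lib.Coprime.conjMap_mul g (t : Y) K
    · refine iSup_le fun t => ?_
      refine le_trans (le_of_eq ?_) (Cfsg.Lib.Coprime.conjMap_mono
        (le_iSup (fun t : T => Cfsg.Lib.Coprime.conjMap (t : Y) K) (⟨g, hg⟩⁻¹ * t)))
      rw [Cfsg.Lib.Coprime.conjMap_mul]
      simp
  have hn : X ⊔ T ≤ normalizer (E' : Set Y) := sup_le (hXE.trans hEn) hTn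
  by_contra hXE'
  obtain ⟨P1, hP1E, hP1p, hP1c⟩ := D.exists_noncyclic_of_not_centralized hn (hXE.trans hsup) hcomm
    fun hc => hKX (hc.trans (centralizer_le hKE'))
  obtain ⟨P2, hP2E, hP2p, hP2c⟩ := D.exists_noncyclic_of_not_le hn
    (sup_le le_normalizer (hcomm.trans (centralizer_le_normalizer _))) (hXE.trans hsup) hXE'
  have hsmall : ∀ Q : Subgroup Y, IsPGroup p Q → ¬ IsCyclic Q →
      ∃ A ≤ Q, Nat.card A = p ^ 2 ∧ (∀ a ∈ A, ∀ b ∈ A, a * b = b * a) ∧ ∀ a ∈ A, a ^ p = 1 := by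
    intro Q hQ hQc
    obtain ⟨A, -, hA2, hA⟩ := Cfsg.Lib.SolvStruct.exists_normal_elementary_sq hp2 hQ hQc
    refine ⟨A.map Q.subtype, map_subtype_le A, by rw [card_map_of_injective Q.subtype_injective, hA], ?_, ?_⟩
    · rintro _ ⟨a, ha, rfl⟩ _ ⟨b, hb, rfl⟩
      exact congrArg (fun z : A => ((z.1 : Q) : Y)) (hA2.1.is_comm.comm ⟨a, ha⟩ ⟨b, hb⟩)
    · rintro _ ⟨a, ha, rfl⟩
      rw [← map_pow, hA2.2 a ha, map_one]
  obtain ⟨A1, hA1, hA1c, hA1ab, hA1e⟩ := hsmall P1 hP1p hP1c
  obtain ⟨A2, hA2, hA2c, -, hA2e⟩ := hsmall P2 hP2p hP2c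
  obtain ⟨y, hy, hyA⟩ : ∃ y ∈ A2, y ∉ A1 := by
    by_contra hno
    push Not at hno
    -- then `A2` is central in `E` and lies in `O_p`
    have hz : A2 ≤ centralizer (E : Set Y) := by
      rw [le_centralizer_iff]
      refine hsup.trans (sup_le ?_ ?_) <;> rw [le_centralizer_iff]
      · exact (hA2.trans hP2E).trans hcomm
      · have h1 : A2 ≤ E' := fun a ha => hP1E (hA1 (hno a ha))
        exact h1.trans (le_centralizer_iff.1 hcomm)
    have hEr : Er ≤ E := sSup_le fun L hL => comp_le_layer hL.1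
    haveI : (E ⊓ centralizer (E : Set Y)).Normal := inferInstance
    have hab : ∀ a b : ↥(E ⊓ centralizer (E : Set Y)), a * b = b * a := fun a b =>
      Subtype.ext (mem_centralizer_iff.1 b.2.2 a a.2.1)
    have hsn : A2.IsSubnormal := by
      have hle : A2 ≤ E ⊓ centralizer (E : Set Y) := le_inf ((hA2.trans hP2E).trans hEr) hz
      refine isSubnormal_of_normal_in (inferInstance : (E ⊓ centralizer (E : Set Y)).Normal).isSubnormal hle ?_
      intro g hg
      refine mem_normalizer_iff.2 fun a => ?_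
      constructor
      · intro ha
        have := congrArg Subtype.val (hab ⟨g, hg⟩ ⟨a, hle ha⟩)
        rwa [show g * a = a * g from this, mul_inv_cancel_right]
      · intro ha
        have h1 : g * a * g⁻¹ ∈ E ⊓ centralizer (E : Set Y) := hle ha
        have := congrArg Subtype.val (hab ⟨g, hg⟩ ⟨_, h1⟩)
        rw [show a = g⁻¹ * ((g * a * g⁻¹) * g) by group,
          show (g * a * g⁻¹) * g = g * (g * a * g⁻¹) from this.symm, inv_mul_cancel_left]
        exact ha
    have hpow : IsPGroup p A2 := fun a => ⟨1, Subtype.ext (by rw [pow_one]; exact hA2e a a.2)⟩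
    have h2 := le_pCore_of_subnormal hsn hpow
    haveI := isCyclic_of_le h2 hcyc
    have := Cfsg.Lib.QTUniq.card_le_of_exponent hp fun a : A2 => Subtype.ext (hA2e a a.2)
    rw [hA2c] at this
    exact absurd this (_root_.not_le.2 (lt_self_pow₀ hp.one_lt one_lt_two))
  exact false_of_three (H := (⊤ : Subgroup Y))
    (Cfsg.Lib.OddP.pRankLE_of_injective (⊤ : Subgroup Y).subtype (Subgroup.subtype_injective _) (hrk p hp hp2))
    le_top hA1ab hA1e hA1c.ge (mem_top y) (hA2e y hy) hyA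
    fun b hb => mem_centralizer_iff.1 (hcomm (hP2E (hA2 hy))) b (hP1E (hA1 hb))

end Cfsg.Lib.QTSolUniq
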