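import Cfsg.Agent.QTKE.SolUniq.Data
import Cfsg.Agent.QTKE.Uniq.RankAction
import Cfsg.Agent.OddLocal.SmallAction
import Mathlib.FieldTheory.IsAlgClosed.AlgebraicClosure
import Mathlib.LinearAlgebra.Matrix.ToLinearEquiv

/-!
`X` acts trivially on groups of rank two: abelian `p'`-subgroups of `SL₂` are cyclic.
-/

set_option autoImplicit false
set_option linter.unusedSectionVars false
set_option linter.style.haveILetI false

namespace Cfsg.Lib.QTSolUniq

open Subgroup Matrix
open scoped commutatorElement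

universe u

/-- commutative `p`-subgroups of `SL₂(F)`, `p ≠ 0` in `F`, are cyclic -/
theorem isCyclic_of_sl_two {F : Type} [Field F] [Finite F] {p : ℕ} [Fact p.Prime] (hpF : (p : F) ≠ 0)
    (E : Subgroup (GL (Fin 2) F)) (hc : IsMulCommutative E) (hE : IsPGroup p E)
    (hdet : ∀ g ∈ E, (g : Matrix (Fin 2) (Fin 2) F).det = 1) : IsCyclic E := by
  classical
  haveI : Finite (GL (Fin 2) F) := inferInstance
  by_cases hsc : ∀ g ∈ E, ∃ c : F, (g : Matrix (Fin 2) (Fin 2) F) = c • (1 : Matrix (Fin 2) (Fin 2) F)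
  · -- scalars
    let χ : E →* F :=
      { toFun := fun g => (g.1 : Matrix (Fin 2) (Fin 2) F) 0 0
        map_one' := by simp
        map_mul' := fun g h => by
          obtain ⟨c, hc⟩ := hsc g g.2
          obtain ⟨d, hd⟩ := hsc h h.2
          simp [hc, hd, Matrix.mul_apply, Fin.sum_univ_two, Matrix.smul_apply] }
    refine isCyclic_of_injective_ringHom χ fun g h e => ?_
    obtain ⟨c, hc⟩ := hsc g g.2
    obtain ⟨d, hd⟩ := hsc h h.2
    refine Subtype.ext (Units.ext ?_)
    have e' : c = d := by simpa [χ, hc, hd] using e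
    rw [hc, hd, e']
  push Not at hsc
  obtain ⟨x, hx, hxs⟩ := hsc
  let K := AlgebraicClosure F
  let ι : F →+* K := algebraMap F K
  have hlin : ∀ g ∈ E, ∃ a b : F,
      (g : Matrix (Fin 2) (Fin 2) F) = a • (1 : Matrix (Fin 2) (Fin 2) F) + b • (x : Matrix (Fin 2) (Fin 2) F) := by
    intro g hg
    refine Cfsg.Lib.LinearTwo.exists_linear_of_commute hxs ?_
    exact congrArg Units.val (congrArg Subtype.val (hc.is_comm.comm ⟨g, hg⟩ ⟨x, hx⟩))
  set M : Matrix (Fin 2) (Fin 2) K := (x : Matrix (Fin 2) (Fin 2) F).map ι with hM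
  obtain ⟨l, hl⟩ := IsAlgClosed.exists_root M.charpoly (by
    rw [Matrix.charpoly_degree_eq_dim]; simp)
  obtain ⟨v, hv, hMv⟩ : ∃ v : Fin 2 → K, v ≠ 0 ∧ (M - Matrix.scalar (Fin 2) l) *ᵥ v = 0 := by
    refine Matrix.exists_mulVec_eq_zero_iff.2 ?_
    have h1 : (Matrix.scalar (Fin 2) l - M).det = 0 := by rw [← Matrix.eval_charpoly]; exact hl
    rw [← neg_sub, Matrix.det_neg, h1, mul_zero]
  have hMv' : M *ᵥ v = l • v := by
    rw [Matrix.sub_mulVec, sub_eq_zero] at hMv
    rw [hMv, Matrix.scalar_apply, ← Matrix.smul_one_eq_diagonal, Matrix.smul_mulVec, Matrix.one_mulVec]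
  have heig : ∀ g : E, ∃ c : K, ((g.1 : Matrix (Fin 2) (Fin 2) F).map ι) *ᵥ v = c • v := by
    intro g
    obtain ⟨a, b, hab⟩ := hlin g g.2
    refine ⟨ι a + ι b * l, ?_⟩
    rw [hab]
    have e : (a • (1 : Matrix (Fin 2) (Fin 2) F) + b • (x : Matrix (Fin 2) (Fin 2) F)).map ι =
        ι a • (1 : Matrix (Fin 2) (Fin 2) K) + ι b • M := by
      ext i j
      by_cases hij : i = j <;> simp [hM, hij, Matrix.one_apply]
    rw [e, Matrix.add_mulVec, Matrix.smul_mulVec, Matrix.smul_mulVec, Matrix.one_mulVec, hMv', smul_smul,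
      add_smul]
  choose χ0 hχ0 using heig
  have huniq : ∀ c d : K, c • v = d • v → c = d := fun c d h => by
    by_contra hne
    exact hv ((smul_eq_zero.1 (by rw [sub_smul, h, sub_self] : (c - d) • v = 0)).resolve_left (sub_ne_zero.2 hne))
  let χ : E →* K :=
    { toFun := χ0
      map_one' := huniq _ _ (by rw [← hχ0]; simp [Matrix.map_one])
      map_mul' := fun g h => huniq _ _ (by
        rw [← hχ0, show ((g * h : E).1 : Matrix (Fin 2) (Fin 2) F) = (g.1 : Matrix (Fin 2) (Fin 2) F) * h.1 from rfl,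
          Matrix.map_mul, ← Matrix.mulVec_mulVec, hχ0, Matrix.mulVec_smul, hχ0, smul_smul, mul_comm]) }
  refine isCyclic_of_injective_ringHom χ ((injective_iff_map_eq_one χ).2 fun g hg => ?_)
  set N : Matrix (Fin 2) (Fin 2) F := ((g.1 : GL (Fin 2) F) : Matrix (Fin 2) (Fin 2) F) with hN
  have hg' : (N.map ι - 1) *ᵥ v = 0 := by
    rw [Matrix.sub_mulVec, Matrix.one_mulVec, hχ0, show χ0 g = 1 from hg, one_smul, sub_self]
  have h0 : (N - 1).det = 0 := by
    have h1 : (N.map ι - 1).det = 0 := Matrix.exists_mulVec_eq_zero_iff.1 ⟨v, hv, hg'⟩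
    rw [show N.map ι - 1 = (N - 1).map ι by ext i j; by_cases hij : i = j <;> simp [Matrix.one_apply, hij],
      ← RingHom.mapMatrix_apply, ← RingHom.map_det] at h1
    exact ι.injective (h1.trans (map_zero ι).symm)
  have htr : N.trace = 2 := by
    have hd := hdet g g.2
    rw [Matrix.det_fin_two] at h0
    rw [← hN, Matrix.det_fin_two] at hd
    simp [Matrix.one_apply] at h0
    rw [Matrix.trace_fin_two]
    linear_combination hd - h0
  have hsq : (N - 1) * (N - 1) = 0 := by
    have h := Cfsg.Lib.LinearTwo.cayley N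
    rw [htr, hdet g g.2, one_smul, two_smul] at h
    rw [← h]
    noncomm_ring
  have hpow : ∀ n : ℕ, N ^ n = 1 + (n : F) • (N - 1) := by
    intro n
    induction n with
    | zero => simp
    | succ n ih =>
      rw [pow_succ, ih, Nat.cast_succ, add_smul, one_smul]
      calc (1 + (n : F) • (N - 1)) * N = (1 + (n : F) • (N - 1)) * ((N - 1) + 1) := by rw [sub_add_cancel]
        _ = (N - 1) + 1 + (n : F) • ((N - 1) * (N - 1)) + (n : F) • (N - 1) := by
          rw [add_mul, one_mul, smul_mul_assoc, mul_add, mul_one, smul_add]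
          abel
        _ = 1 + ((n : F) • (N - 1) + (N - 1)) := by rw [hsq, smul_zero]; abel
  obtain ⟨k, hk⟩ := hE g
  have h1 := hpow (p ^ k)
  rw [show N ^ p ^ k = 1 from congrArg (fun a : E => (a.1 : Matrix (Fin 2) (Fin 2) F)) hk, eq_comm,
    add_eq_left, Nat.cast_pow, smul_eq_zero, sub_eq_zero] at h1
  exact Subtype.ext (Units.ext (h1.resolve_left (pow_ne_zero k hpF)))

variable {Y : Type u} [Group Y] [Finite Y] {p : ℕ} {X T Φ : Subgroup Y}

theorem isCyclic_of_le {A : Type*} [Group A] {P Q : Subgroup A} (h : P ≤ Q) (hQ : IsCyclic Q) : IsCyclic P :=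
  isCyclic_of_injective (inclusion h) (inclusion_injective h)

/-- `X` acts trivially on a group of exponent `r` and order at most `r ^ 2` -/
theorem XData.trivial_on_module (D : XData p X T Φ) (hp2 : p ≠ 2) [Fact p.Prime] {r : ℕ} [Fact r.Prime]
    {M : Type u} [CommGroup M] [Finite M] (hM : ∀ m : M, m ^ r = 1) {k : ℕ} (hk : k ≤ 2)
    (hkc : Nat.card M = r ^ k) (f : ↥(X ⊔ T) →* MulAut M) : X.subgroupOf (X ⊔ T) ≤ f.ker := by
  classical
  have hp : p.Prime := Fact.out
  have hr : r.Prime := Fact.out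
  haveI : Finite (MulAut M) := Finite.of_injective (fun e => (e : M → M)) DFunLike.coe_injective
  rcases (show k ≤ 1 ∨ k = 2 by omega) with hk1 | rfl
  · haveI : IsCyclic (MulAut M) := by
      rcases (show k = 0 ∨ k = 1 by omega) with rfl | rfl
      · haveI : Subsingleton M := (Nat.card_eq_one_iff_unique.mp (hkc.trans (pow_zero r))).1
        haveI : Subsingleton (MulAut M) := ⟨fun a b => MulEquiv.ext fun v => Subsingleton.elim _ _⟩
        infer_instance
      · exact Cfsg.Lib.QTUniq.isCyclic_mulAut_of_card hr (hkc.trans (pow_one r))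
    exact D.trivial_of_cyclic f fun P _ _ => isCyclic_of_injective P.subtype P.subtype_injective
  letI : Module (ZMod r) (Additive M) := AddCommGroup.zmodModule (n := r) (G := Additive M) fun m => hM m.toMul
  haveI : Module.Finite (ZMod r) (Additive M) := Module.Finite.of_finite
  have hfin : Module.finrank (ZMod r) (Additive M) = 2 := by
    have h := Module.natCard_eq_pow_finrank (K := ZMod r) (V := Additive M)
    rw [Nat.card_congr Additive.toMul, hkc, Nat.card_zmod] at h
    exact (Nat.pow_right_injective hr.two_le h).symm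
  let b := Module.finBasisOfFinrankEq (ZMod r) (Additive M) hfin
  let lin : MulAut M →* Module.End (ZMod r) (Additive M) :=
    { toFun := fun a => AddMonoidHom.toZModLinearMap r (MonoidHom.toAdditive a.toMonoidHom)
      map_one' := LinearMap.ext fun v => rfl
      map_mul' := fun a b => LinearMap.ext fun v => rfl }
  let θ : MulAut M →* Matrix (Fin 2) (Fin 2) (ZMod r) :=
    (LinearMap.toMatrixAlgEquiv b).toMonoidHom.comp lin
  let Θ : MulAut M →* GL (Fin 2) (ZMod r) := θ.toHomUnits
  have hΘ : Function.Injective Θ := fun a c h => MulEquiv.ext fun m =>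
    Additive.ofMul.injective (LinearMap.congr_fun
      ((LinearMap.toMatrixAlgEquiv b).injective (congrArg Units.val h)) (Additive.ofMul m))
  let g : ↥(X ⊔ T) →* GL (Fin 2) (ZMod r) := Θ.comp f
  suffices h : X.subgroupOf (X ⊔ T) ≤ g.ker by
    intro x hx
    exact MonoidHom.mem_ker.2 (hΘ (((MonoidHom.mem_ker.1 (h hx)) : Θ (f x) = 1).trans (map_one Θ).symm))
  refine D.trivial_of_cyclic g fun P hP hPp => ?_
  by_cases hrp : r = p
  · subst hrp
    obtain ⟨j, hj⟩ := hPp.exists_card_eq
    have h1 := card_subgroup_dvd_card P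
    rw [Matrix.card_GL_field, hj, Fin.prod_univ_two, Fintype.card_eq_nat_card, Nat.card_zmod] at h1
    simp only [Fin.val_zero, pow_zero, Fin.val_one, pow_one] at h1
    have hj1 : j ≤ 1 := by
      by_contra hlt
      have h2 : r ^ 2 ∣ (r ^ 2 - 1) * (r ^ 2 - r) := (pow_dvd_pow r (by omega)).trans h1
      have h3 : (r ^ 2).Coprime (r ^ 2 - 1) := by
        have : 1 ≤ r ^ 2 := Nat.one_le_pow _ _ hr.pos
        rw [Nat.coprime_comm, Nat.coprime_self_sub_left this]
        exact Nat.coprime_one_left _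
      have h4 := h3.dvd_mul_left.1 h2
      have h5 : 0 < r ^ 2 - r := Nat.sub_pos_of_lt (by nlinarith [hr.two_le])
      have := Nat.le_of_dvd h5 h4
      have := hr.pos
      omega
    rcases (show j = 0 ∨ j = 1 by omega) with rfl | rfl
    · haveI : Subsingleton P := (Nat.card_eq_one_iff_unique.1 (hj.trans (pow_zero _))).1
      infer_instance
    · exact isCyclic_of_prime_card (hj.trans (pow_one _))
  · let dt : ↥(X ⊔ T) →* (ZMod r)ˣ := Matrix.GeneralLinearGroup.det.comp g
    have hdt : X.subgroupOf (X ⊔ T) ≤ dt.ker :=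
      D.trivial_of_cyclic dt fun P _ _ => isCyclic_of_injective P.subtype P.subtype_injective
    have hdetP : ∀ x ∈ P, (x : Matrix (Fin 2) (Fin 2) (ZMod r)).det = 1 := by
      intro x hx
      obtain ⟨y, hy, rfl⟩ := hP hx
      exact congrArg Units.val (MonoidHom.mem_ker.1 (hdt hy))
    by_contra hnc
    obtain ⟨E, hEP, hEc, hEn⟩ := Cfsg.Lib.GWD.Mixed.exists_noncyclic_commutative hp2 hPp hnc
    refine hEn (isCyclic_of_sl_two ?_ E hEc (hPp.to_le hEP) fun x hx => hdetP x (hEP hx))
    intro h0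
    exact hrp ((Nat.prime_dvd_prime_iff_eq hr hp).1 ((CharP.cast_eq_zero_iff (ZMod r) r p).1 h0))

/-- `X` acts trivially on `U/Φ(U)` for `U` of exponent `r` and rank two -/
theorem XData.frattini_trivial (D : XData p X T Φ) (hp2 : p ≠ 2) [Fact p.Prime] {r : ℕ} [Fact r.Prime]
    {U : Subgroup Y} (hU : IsPGroup r U) (hrk : Cfsg.PRankLE r 2 U) (hexp : ∀ y : U, y ^ r = 1)
    (hn : X ⊔ T ≤ normalizer (U : Set Y)) :
    ∀ a : normalizer (U : Set Y), (a : Y) ∈ X → Cfsg.Lib.OddP.frattiniAction U a = 1 := by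
  obtain ⟨k, hk, hkc⟩ := Cfsg.Lib.OddP.frattini_quotient_small hU hrk hexp
  haveI := Cfsg.Lib.PGroups.isMulCommutative_quotient_frattini hU
  letI : CommGroup (U ⧸ frattini U) :=
    { (inferInstance : Group (U ⧸ frattini U)) with mul_comm := mul_comm' }
  intro a ha
  let f : ↥(X ⊔ T) →* MulAut (U ⧸ frattini U) := (Cfsg.Lib.OddP.frattiniAction U).comp (inclusion hn)
  have h1 : X.subgroupOf (X ⊔ T) ≤ f.ker :=
    D.trivial_on_module (r := r) (M := U ⧸ frattini U) hp2
      (Cfsg.Lib.PGroups.pow_prime_quotient_frattini hU) hk hkc f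
  have h2 : f ⟨a, mem_sup_left ha⟩ = 1 := MonoidHom.mem_ker.1 (h1 (mem_subgroupOf.2 ha))
  exact h2

/-- `X` centralises `r`-groups of rank two it normalises, `r` odd and not `p` -/
theorem XData.centralizes_rankTwo (D : XData p X T Φ) (hp2 : p ≠ 2) [Fact p.Prime] {r : ℕ} [Fact r.Prime]
    (hr2 : r ≠ 2) (hrp : r ≠ p) {R : Subgroup Y} (hR : IsPGroup r R) (hrk : Cfsg.PRankLE r 2 R)
    (hn : X ⊔ T ≤ normalizer (R : Set Y)) : X ≤ centralizer (R : Set Y) := by
  obtain ⟨Dc, hDc, hDexp, hD⟩ := Cfsg.Lib.OddP.exists_exponent_critical hr2 hR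
  set U := Dc.map R.subtype with hU
  have hUp : IsPGroup r U := (hR.to_subgroup Dc).map _
  have hXU : X ⊔ T ≤ normalizer (U : Set Y) := hn.trans (Cfsg.Lib.OddP.le_normalizer_map_of_char Dc)
  have hexpU : ∀ y : U, y ^ r = 1 := by
    rintro ⟨_, y, hy, rfl⟩
    exact Subtype.ext (by show (y : Y) ^ r = 1; rw [← SubgroupClass.coe_pow, hDexp y hy]; rfl)
  have hrU : Cfsg.PRankLE r 2 U :=
    Cfsg.Lib.OddP.pRankLE_of_injective (inclusion (map_subtype_le Dc)) (inclusion_injective _) hrk
  refine D.gen.trans ((closure_le _).2 ?_)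
  rintro x ⟨hx, k, hk⟩
  have hcop : (Nat.card (zpowers x)).Coprime r := by
    rw [Nat.card_zpowers]
    exact Nat.Coprime.coprime_dvd_left (orderOf_dvd_of_pow_eq_one hk)
      (((Nat.coprime_primes (Fact.out : p.Prime) (Fact.out : r.Prime)).2 (Ne.symm hrp)).pow_left k)
  refine hD (zpowers x) (zpowers_le.2 (hn (mem_sup_left hx))) hcop ?_ (mem_zpowers x)
  refine Cfsg.Lib.OddP.le_centralizer_of_frattiniAction hUp hcop (zpowers_le.2 (hXU (mem_sup_left hx)))
    fun a ha => D.frattini_trivial hp2 hUp hrU hexpU hXU a (zpowers_le.2 hx ha)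

end Cfsg.Lib.QTSolUniq
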