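import Cfsg.Agent.QTKE.SolUniq.Order
import Cfsg.Agent.Components.Supplement

/-!
`X` centralising the layer is normal; otherwise `O_p` is cyclic.
-/

set_option autoImplicit false
set_option linter.unusedSectionVars false
set_option linter.style.haveILetI false

namespace Cfsg.Lib.QTSolUniq

open Subgroup Cfsg.Lib.Components
open scoped commutatorElement

universe u

variable {Y : Type u} [Group Y] [Finite Y] {p : ℕ} [Fact p.Prime] {X T Φ : Subgroup Y}

theorem XData.centralizes_pCore (D : XData p X T Φ) (hp2 : p ≠ 2)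
    (hrk : ∀ r : ℕ, r.Prime → r ≠ 2 → Cfsg.PRankLE r 2 Y) (hO : Cfsg.pCore 2 Y = ⊥) {r : ℕ} (hr : r.Prime)
    (hrp : r ≠ p) : X ≤ centralizer (Cfsg.pCore r Y : Set Y) := by
  haveI := Fact.mk hr
  by_cases hr2 : r = 2
  · subst hr2
    intro x _
    refine mem_centralizer_iff.2 fun y hy => ?_
    rw [hO] at hy
    rw [show y = 1 from mem_bot.1 hy, one_mul, mul_one]
  refine D.centralizes_rankTwo hp2 hr2 hrp (isPGroup_pCore r)
    (Cfsg.Lib.OddP.pRankLE_of_injective (Cfsg.pCore r Y).subtype (Subgroup.subtype_injective _) (hrk r hr hr2)) ?_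
  rw [normalizer_eq_top]
  exact le_top

/-- if `X` centralises the layer, it is normal -/
theorem XData.normal_of_le_centralizer (D : XData p X T Φ) (hp2 : p ≠ 2)
    (hrk : ∀ r : ℕ, r.Prime → r ≠ 2 → Cfsg.PRankLE r 2 Y) (hO : Cfsg.pCore 2 Y = ⊥)
    (hXE : X ≤ centralizer (Cfsg.layer Y : Set Y)) : X.Normal := by
  classical
  have hp : p.Prime := Fact.out
  set P0 := Cfsg.pCore p Y with hP0
  set W := ⨆ r : {r : ℕ // r.Prime ∧ r ≠ p}, Cfsg.pCore r.1 Y with hW
  have hP0p : IsPGroup p P0 := isPGroup_pCore p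
  have hrP : Cfsg.PRankLE p 2 P0 := Cfsg.Lib.OddP.pRankLE_of_injective P0.subtype (Subgroup.subtype_injective _) (hrk p hp hp2)
  obtain ⟨Dc, hDc, hDexp, hD⟩ := Cfsg.Lib.OddP.exists_exponent_critical hp2 hP0p
  set U := Dc.map P0.subtype with hU
  have hUp : IsPGroup p U := (hP0p.to_subgroup Dc).map _
  have hUn : normalizer (U : Set Y) = ⊤ := by
    rw [eq_top_iff]
    refine le_trans ?_ (Cfsg.Lib.OddP.le_normalizer_map_of_char Dc)
    rw [normalizer_eq_top]
  have hexpU : ∀ y : U, y ^ p = 1 := by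
    rintro ⟨_, y, hy, rfl⟩
    exact Subtype.ext (by show (y : Y) ^ p = 1; rw [← SubgroupClass.coe_pow, hDexp y hy]; rfl)
  have hrU : Cfsg.PRankLE p 2 U :=
    Cfsg.Lib.OddP.pRankLE_of_injective (inclusion (map_subtype_le Dc)) (inclusion_injective _) hrP
  let ρ : Y →* normalizer (U : Set Y) := (MonoidHom.id Y).codRestrict _ fun y => hUn ▸ mem_top y
  set V := ((Cfsg.Lib.OddP.frattiniAction U).comp ρ).ker with hV
  set CW := centralizer (W : Set Y) with hCW
  set CE := centralizer (Cfsg.layer Y : Set Y) with hCE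
  haveI : W.Normal := normal_of_mem_sSup_normal (s := Set.range fun r : {r : ℕ // r.Prime ∧ r ≠ p} => Cfsg.pCore r.1 Y)
    (by rintro _ ⟨r, rfl⟩; exact inferInstance)
  haveI : CW.Normal := inferInstanceAs (centralizer (W : Set Y)).Normal
  haveI : CE.Normal := inferInstanceAs (centralizer (Cfsg.layer Y : Set Y)).Normal
  set K := CE ⊓ CW ⊓ V with hK
  haveI : K.Normal := inferInstance
  have hFW : Cfsg.fittingSubgroup Y ≤ P0 ⊔ W := by
    rw [fitting_eq_iSup_pCore]
    refine iSup_le fun r => ?_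
    by_cases h : r.1 = p
    · rw [h]; exact le_sup_left
    · exact le_sup_of_le_right (le_iSup (fun r : {r : ℕ // r.Prime ∧ r ≠ p} => Cfsg.pCore r.1 Y) ⟨r.1, r.2, h⟩)
  have hXK : X ≤ K := by
    refine le_inf (le_inf hXE ?_) fun x hx => ?_
    · rw [hCW, le_centralizer_iff]
      refine iSup_le fun r => ?_
      rw [← le_centralizer_iff]
      exact D.centralizes_pCore hp2 hrk hO r.2.1 r.2.2
    · rw [hV, MonoidHom.mem_ker, MonoidHom.comp_apply]
      exact D.frattini_trivial hp2 hUp hrU hexpU (hUn ▸ le_top) (ρ x) hx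
  -- `p'`-elements of `K` are central
  have hcentral : ∀ a ∈ K, (orderOf a).Coprime p → ∀ b ∈ K, b * a = a * b := by
    intro a ha hcop b hb
    have hcop' : (Nat.card (zpowers a)).Coprime p := by rwa [Nat.card_zpowers]
    have haP : zpowers a ≤ centralizer (P0 : Set Y) := by
      refine hD _ (by rw [normalizer_eq_top]; exact le_top) hcop' ?_
      refine Cfsg.Lib.OddP.le_centralizer_of_frattiniAction hUp hcop' (hUn ▸ le_top) fun c hc => ?_
      have h1 : (c : Y) ∈ V := zpowers_le.2 ha.2 hc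
      exact MonoidHom.mem_ker.1 h1
    have haF : a ∈ centralizer (Cfsg.generalizedFittingSubgroup Y : Set Y) := by
      have hle : Cfsg.generalizedFittingSubgroup Y ≤ centralizer ({a} : Set Y) := by
        refine sup_le ?_ (hFW.trans (sup_le ?_ ?_))
        · exact fun y hy => mem_centralizer_singleton_iff.2 (mem_centralizer_iff.1 ha.1.1 y hy).symm.symm
        · exact fun y hy => mem_centralizer_singleton_iff.2 (mem_centralizer_iff.1 (haP (mem_zpowers a)) y hy)
        · exact fun y hy => mem_centralizer_singleton_iff.2 (mem_centralizer_iff.1 ha.1.2 y hy)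
      exact mem_centralizer_iff.2 fun y hy => mem_centralizer_singleton_iff.1 (hle hy)
    haveI : (centralizer (Cfsg.generalizedFittingSubgroup Y : Set Y)).Normal := inferInstance
    have haFit : a ∈ Cfsg.fittingSubgroup Y := by
      refine le_fitting (N := centralizer (Cfsg.generalizedFittingSubgroup Y : Set Y)) ?_ haF
      letI : CommGroup (centralizer (Cfsg.generalizedFittingSubgroup Y : Set Y)) :=
        { (inferInstance : Group (centralizer (Cfsg.generalizedFittingSubgroup Y : Set Y))) with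
          mul_comm := fun c d => Subtype.ext (mem_centralizer_iff.1 d.2 c (centralizer_genFitting_le c.2)) }
      infer_instance
    have haW : a ∈ W := by
      obtain ⟨u, hu, w, hw, rfl⟩ := mem_sup_of_normal_right.1 (hFW haFit)
      have hcw : Commute u w := by
        have : W ≤ centralizer ({u} : Set Y) := iSup_le fun r y hy => by
          haveI := Fact.mk r.2.1
          exact mem_centralizer_singleton_iff.2 (pCore_commute r.2.2 y u hy hu).eq
        exact (mem_centralizer_singleton_iff.1 (this hw)).symm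
      obtain ⟨k, hk⟩ := hP0p ⟨u, hu⟩
      have h1 : (u * w) ^ p ^ k = w ^ p ^ k := by
        rw [hcw.mul_pow, show u ^ p ^ k = 1 from congrArg Subtype.val hk, one_mul]
      obtain ⟨m, hm⟩ := exists_pow_eq_self_of_coprime (x := u * w) (n := p ^ k) (hcop.pow_right k).symm
      rw [← hm, h1]
      exact pow_mem (pow_mem hw _) _
    exact (mem_centralizer_iff.1 hb.1.2 a haW).symm
  -- the Sylow subgroup of `K` is normal
  obtain ⟨S⟩ := (inferInstance : Nonempty (Sylow p K))
  have htop : (S : Subgroup K) ⊔ center K = ⊤ := by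
    refine index_eq_one.1 (by_contra fun hne => ?_)
    obtain ⟨r, hr, hrd⟩ := Nat.exists_prime_and_dvd hne
    haveI := Fact.mk hr
    by_cases hrp : r = p
    · subst hrp
      exact S.not_dvd_index (hrd.trans (index_dvd_of_le le_sup_left))
    obtain ⟨R⟩ := (inferInstance : Nonempty (Sylow r K))
    refine R.not_dvd_index (hrd.trans (index_dvd_of_le (le_sup_of_le_right fun a ha => ?_)))
    refine mem_center_iff.2 fun b => Subtype.ext (hcentral a a.2 ?_ b b.2)
    obtain ⟨k, hk⟩ := R.2 ⟨a, ha⟩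
    refine Nat.Coprime.coprime_dvd_left (orderOf_dvd_of_pow_eq_one (n := r ^ k) ?_)
      (((Nat.coprime_primes hr hp).2 hrp).pow_left k)
    exact congrArg (fun y => ((y.1 : K) : Y)) hk
  haveI hSn : (S : Subgroup K).Normal := by
    refine normalizer_eq_top_iff.1 (top_le_iff.1 (htop ▸ sup_le le_normalizer fun c hc => ?_))
    refine mem_normalizer_iff.2 fun b => ?_
    rw [← mem_center_iff.1 hc b, mul_inv_cancel_right]
  have hSP : (S : Subgroup K).map K.subtype ≤ P0 := by
    haveI hSc : (S : Subgroup K).Characteristic := Sylow.characteristic_of_normal S hSn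
    haveI : ((S : Subgroup K).map K.subtype).Normal := inferInstance
    exact le_pCore (S.2.map _)
  have hXP : X ≤ P0 := by
    refine D.gen.trans ((closure_le _).2 ?_)
    rintro x ⟨hx, k, hk⟩
    have hz : IsPGroup p (zpowers (⟨x, hXK hx⟩ : K)) := by
      rintro ⟨_, m, rfl⟩
      refine ⟨k, Subtype.ext (Subtype.ext ?_)⟩
      show (x ^ m) ^ p ^ k = 1
      rw [← zpow_natCast, ← zpow_mul, mul_comm, zpow_mul, zpow_natCast, hk, one_zpow]
    obtain ⟨S', hS'⟩ := hz.exists_le_sylow
    haveI := Sylow.unique_of_normal S hSn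
    rw [Subsingleton.elim S' S] at hS'
    exact hSP ⟨⟨x, hXK hx⟩, hS' (mem_zpowers _), rfl⟩
  obtain ⟨h1, h2⟩ := D.omega hp2 hP0p hrP hXP (by rw [normalizer_eq_top]; exact le_top)
  refine ⟨fun x hx g => h2 _ ((inferInstance : P0.Normal).conj_mem x (hXP hx) g) ?_⟩
  rw [conj_pow, h1 x hx, mul_one, mul_inv_cancel]

/-- otherwise `O_p` is cyclic -/
theorem XData.isCyclic_pCore (D : XData p X T Φ) (hp2 : p ≠ 2)
    (hrk : ∀ r : ℕ, r.Prime → r ≠ 2 → Cfsg.PRankLE r 2 Y)
    (hXE : X ⊓ centralizer (Cfsg.layer Y : Set Y) ≤ Φ) : IsCyclic (Cfsg.pCore p Y) := by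
  classical
  have hp : p.Prime := Fact.out
  by_contra hnc
  set P0 := Cfsg.pCore p Y with hP0
  have hP0p : IsPGroup p P0 := isPGroup_pCore p
  obtain ⟨Dc, hDc, hDexp, hDcard⟩ := exists_exponent_noncyclic hp2 hP0p hnc
  set U := Dc.map P0.subtype with hU
  have hUp : IsPGroup p U := (hP0p.to_subgroup Dc).map _
  have hexpU : ∀ y ∈ U, y ^ p = 1 := by
    rintro _ ⟨y, hy, rfl⟩
    rw [← map_pow, hDexp y hy, map_one]
  have hXU : X ⊔ T ≤ normalizer (U : Set Y) := by
    refine le_trans ?_ (Cfsg.Lib.OddP.le_normalizer_map_of_char Dc)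
    rw [normalizer_eq_top]
    exact le_top
  have hrU : Cfsg.PRankLE p 2 U := Cfsg.Lib.OddP.pRankLE_of_injective U.subtype (Subgroup.subtype_injective _) (hrk p hp hp2)
  obtain ⟨x, hx, hxp, hxΦ⟩ := D.exists_elem hp2
  have hP0C : P0 ≤ centralizer (Cfsg.layer Y : Set Y) :=
    ((le_fitting hP0p.isNilpotent).trans (commutator_eq_bot_iff_le_centralizer.1
      (by rw [commutator_comm]; exact layer_commute_fitting)))
  have hxU : x ∉ U := fun h => hxΦ (hXE ⟨hx, hP0C (map_subtype_le Dc h)⟩)
  -- the centraliser of `x` in `U`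
  set C := U ⊓ centralizer ({x} : Set Y) with hC
  have hUcard : p ^ 2 ≤ Nat.card U := by rwa [card_map_of_injective P0.subtype_injective]
  have hC2 : p ^ 2 ≤ Nat.card C := by
    obtain ⟨k, hk, hkc⟩ := Cfsg.Lib.OddP.frattini_quotient_small hUp hrU fun y => Subtype.ext (hexpU y y.2)
    have hk2 : k = 2 := by
      by_contra hne
      have hcyc : IsCyclic U := by
        haveI : IsCyclic (U ⧸ frattini U) := by
          rcases (show k = 0 ∨ k = 1 by omega) with rfl | rfl
          · haveI : Subsingleton (U ⧸ frattini U) := (Nat.card_eq_one_iff_unique.1 (hkc.trans (pow_zero p))).1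
            infer_instance
          · exact isCyclic_of_prime_card (hkc.trans (pow_one p))
        obtain ⟨g, hg⟩ := IsCyclic.exists_generator (α := U ⧸ frattini U)
        obtain ⟨b, rfl⟩ := QuotientGroup.mk_surjective g
        refine isCyclic_iff_exists_zpowers_eq_top.2 ⟨b, frattini_nongenerating (eq_top_iff.2 fun y _ => ?_)⟩
        obtain ⟨i, hi⟩ := mem_zpowers_iff.1 (hg (y : U ⧸ frattini U))
        rw [← QuotientGroup.mk_zpow, QuotientGroup.eq] at hi
        rw [show y = b ^ i * ((b ^ i)⁻¹ * y) by group]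
        exact mul_mem (mem_sup_left (zpow_mem (mem_zpowers b) i)) (mem_sup_right hi)
      haveI := hcyc
      have := Cfsg.Lib.QTUniq.card_le_of_exponent hp fun y : U => Subtype.ext (hexpU y y.2)
      have : p < p ^ 2 := lt_self_pow₀ hp.one_lt one_lt_two
      omega
    subst hk2
    have hxn : x ∈ normalizer (U : Set Y) := hXU (mem_sup_left hx)
    have htriv := D.frattini_trivial hp2 hUp hrU (fun y => Subtype.ext (hexpU y y.2)) hXU ⟨x, hxn⟩ hx
    have hval : ∀ y : U, U.normalizerMonoidHom ⟨x, hxn⟩ y * y⁻¹ ∈ frattini U := fun y => by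
      have h1 : (U.normalizerMonoidHom ⟨x, hxn⟩ y : U ⧸ frattini U) = (y : U ⧸ frattini U) :=
        (congrArg (fun e : MulAut (U ⧸ frattini U) => e (y : U ⧸ frattini U)) htriv).trans rfl
      rw [eq_comm, QuotientGroup.eq] at h1
      exact ((inferInstance : (frattini U).Normal).mem_comm_iff).1 h1
    let f : U ⧸ C.subgroupOf U → frattini U := fun q => ⟨_, hval q.out⟩
    have hf : Function.Injective f := by
      intro q r h
      rw [← q.out_eq', ← r.out_eq', QuotientGroup.eq]
      refine mem_subgroupOf.2 ⟨(q.out⁻¹ * r.out).2, mem_centralizer_singleton_iff.2 ?_⟩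
      have h1 : x * q.out * x⁻¹ * (q.out : Y)⁻¹ = x * r.out * x⁻¹ * (r.out : Y)⁻¹ :=
        congrArg (fun z : frattini U => ((z.1 : U) : Y)) h
      show (q.out : Y)⁻¹ * r.out * x = x * ((q.out : Y)⁻¹ * r.out)
      have h2 : x * (q.out : Y)⁻¹ * x⁻¹ = (q.out : Y)⁻¹ * (x * r.out * x⁻¹ * (r.out : Y)⁻¹)⁻¹ := by
        rw [← h1]; group
      calc (q.out : Y)⁻¹ * r.out * x
          = (q.out : Y)⁻¹ * (x * r.out * x⁻¹ * (r.out : Y)⁻¹)⁻¹ * (x * r.out * x⁻¹) * x := by group
        _ = x * (q.out : Y)⁻¹ * x⁻¹ * (x * r.out * x⁻¹) * x := by rw [h2]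
        _ = x * ((q.out : Y)⁻¹ * r.out) := by group
    have h1 := Nat.card_le_card_of_injective f hf
    have h2 := card_eq_card_quotient_mul_card_subgroup (C.subgroupOf U)
    have h3 := card_eq_card_quotient_mul_card_subgroup (frattini U)
    rw [hkc] at h3
    rw [Nat.card_congr (subgroupOfEquivOfLe (inf_le_left : C ≤ U)).toEquiv] at h2
    by_contra hlt
    push Not at hlt
    have h4 : 0 < Nat.card (frattini U) := Nat.card_pos
    nlinarith [Nat.mul_le_mul h1 hlt.le]
  obtain ⟨A, hAC, hA, hAc⟩ := exists_commutative_sq (fun y hy => hexpU y (hy : y ∈ C).1) hC2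
  exact false_of_three (H := (⊤ : Subgroup Y))
    (Cfsg.Lib.OddP.pRankLE_of_injective (⊤ : Subgroup Y).subtype (Subgroup.subtype_injective _) (hrk p hp hp2))
    le_top hAc (fun b hb => hexpU b (hAC hb).1) hA.ge (mem_top x) hxp (fun h => hxU (hAC h).1)
    fun b hb => mem_centralizer_singleton_iff.1 (hAC hb).2

end Cfsg.Lib.QTSolUniq
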