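import Cfsg.Agent.QTKE.SolUniq.Linear
import Cfsg.Agent.OddLocal.UniquenessBase

/-!
`X` inside a `p`-group of rank two consists of the elements of order at most `p`.
-/

set_option autoImplicit false
set_option linter.unusedSectionVars false
set_option linter.style.haveILetI false

namespace Cfsg.Lib.QTSolUniq

open Subgroup
open scoped commutatorElement

universe u

variable {Y : Type u} [Group Y] [Finite Y] {p : ℕ} [Fact p.Prime] {X T Φ : Subgroup Y}

theorem conj_zpow_eq {u v w : Y} (h : u * w * u⁻¹ = v * w) (hc : Commute u v) (k : ℤ) :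
    u ^ k * w * (u ^ k)⁻¹ = v ^ k * w := by
  have e : w * u * w⁻¹ = v⁻¹ * u := by
    rw [eq_inv_mul_iff_mul_eq, ← mul_assoc, ← mul_assoc, ← h]; group
  have e2 : w * u ^ k * w⁻¹ = v ^ (-k) * u ^ k := by
    rw [← conj_zpow, e, (hc.symm.inv_left).mul_zpow, inv_zpow']
  calc u ^ k * w * (u ^ k)⁻¹ = v ^ k * (v ^ (-k) * u ^ k) * w * (u ^ k)⁻¹ := by group
    _ = v ^ k * (w * u ^ k * w⁻¹) * w * (u ^ k)⁻¹ := by rw [e2]
    _ = v ^ k * w := by group

/-- an elementary group of order `p ^ 2` and a further commuting element of order `p` -/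
theorem false_of_three {H : Subgroup Y} (hr : Cfsg.PRankLE p 2 H) {B : Subgroup Y} (hBH : B ≤ H)
    (hBc : ∀ a ∈ B, ∀ b ∈ B, a * b = b * a) (hBe : ∀ b ∈ B, b ^ p = 1) (hB : p ^ 2 ≤ Nat.card B) {x : Y}
    (hxH : x ∈ H) (hxp : x ^ p = 1) (hxB : x ∉ B) (hcomm : ∀ b ∈ B, b * x = x * b) : False := by
  have hp : p.Prime := Fact.out
  have hxo : orderOf x = p := orderOf_eq_prime hxp fun h => hxB (h ▸ one_mem B)
  have hk : ∀ a ∈ (B : Set Y) ∪ {x}, ∀ b ∈ (B : Set Y) ∪ {x}, a * b = b * a := by
    rintro a (ha | rfl) b (hb | rfl)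
    exacts [hBc a ha b hb, hcomm a ha, (hcomm b hb).symm, rfl]
  haveI hc : IsMulCommutative (closure ((B : Set Y) ∪ {x})) := isMulCommutative_closure hk
  set E := closure ((B : Set Y) ∪ {x}) with hE
  have hBE : B ≤ E := fun b hb => Subgroup.subset_closure (Or.inl hb)
  have hxE : x ∈ E := Subgroup.subset_closure (Or.inr rfl)
  have hEe : ∀ y ∈ E, y ^ p = 1 := fun y hy => by
    induction hy using closure_induction with
    | mem y hy => rcases hy with hy | rfl; exacts [hBe y hy, hxp]
    | one => exact one_pow p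
    | mul a b ha hb iha ihb =>
      rw [(show Commute a b from congrArg Subtype.val (hc.is_comm.comm ⟨a, ha⟩ ⟨b, hb⟩)).mul_pow, iha, ihb, one_mul]
    | inv a ha iha => rw [inv_pow, iha, inv_one]
  have hEH : E ≤ H := (closure_le _).2 (Set.union_subset hBH (Set.singleton_subset_iff.2 hxH))
  have hdis : B ⊓ zpowers x = ⊥ := by
    rcases (Nat.dvd_prime hp).1 (hxo ▸ Nat.card_zpowers x ▸ card_dvd_of_le (inf_le_right : B ⊓ zpowers x ≤ zpowers x))
      with h | h
    · exact card_eq_one.1 h
    · exact absurd ((eq_of_le_of_card_ge inf_le_right (by rw [h, Nat.card_zpowers, hxo])).ge (mem_zpowers x)).1 hxB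
  refine Cfsg.Lib.OddLocal.Uniqueness.not_pRankLE_of (p := p) (k := 2) ⟨hc, hEe⟩ hEH ?_ hr
  calc p ^ (2 + 1) = p ^ 2 * p := pow_succ p 2
    _ ≤ Nat.card B * Nat.card (zpowers x) := by rw [Nat.card_zpowers, hxo]; exact Nat.mul_le_mul_right p hB
    _ ≤ Nat.card E := by
      rw [← Nat.card_prod]
      refine Nat.card_le_card_of_injective (fun q => (⟨q.1 * q.2, mul_mem (hBE q.1.2)
        (zpowers_le.2 hxE q.2.2)⟩ : E)) fun a b e => ?_
      exact Subgroup.mul_injective_of_disjoint (disjoint_iff.2 hdis) (congrArg Subtype.val e)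

/-- inside a `p`-group of rank two, `X` is the set of solutions of `x ^ p = 1` -/
theorem XData.omega (D : XData p X T Φ) (hp2 : p ≠ 2) {P : Subgroup Y} (hP : IsPGroup p P)
    (hr : Cfsg.PRankLE p 2 P) (hXP : X ≤ P) (hn : T ≤ normalizer (P : Set Y)) :
    (∀ x ∈ X, x ^ p = 1) ∧ ∀ x ∈ P, x ^ p = 1 → x ∈ X := by
  have hp : p.Prime := Fact.out
  have hXp : IsPGroup p X := hP.to_le hXP
  have hΦp : IsPGroup p Φ := hXp.to_le D.le
  obtain ⟨i, hi⟩ := hΦp.exists_card_eq
  have hcardX : Nat.card X = p ^ i * p ^ 2 := by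
    rw [← hi, ← D.index]
    have h := relIndex_mul_relIndex ⊥ Φ X bot_le D.le
    rw [relIndex_bot_left, relIndex_bot_left] at h
    exact h.symm
  have hi1 : i ≤ 1 := by
    by_contra hlt
    exact D.small (hcardX ▸ (by rw [← pow_add]; exact pow_dvd_pow p (by omega)))
  have hXT : X ⊔ T ≤ normalizer (X : Set Y) := sup_le le_normalizer D.norm
  -- `Φ` is central in `X`
  have hcent : ∀ φ ∈ Φ, ∀ x ∈ X, φ * x = x * φ := by
    intro φ hφ x hx
    rcases (show i = 0 ∨ i = 1 by omega) with rfl | rfl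
    · rw [pow_zero, card_eq_one] at hi
      rw [hi, mem_bot] at hφ
      rw [hφ, one_mul, mul_one]
    · haveI : (Φ.subgroupOf X).Normal :=
        normal_subgroupOf_of_le_normalizer (le_sup_left.trans D.phi_norm)
      have h := Cfsg.Lib.PGroups.le_center_of_card_eq_prime hXp (N := Φ.subgroupOf X)
        (by rw [Nat.card_congr (subgroupOfEquivOfLe D.le).toEquiv, hi, pow_one])
      exact (congrArg Subtype.val (mem_center_iff.1 (h (show (⟨φ, D.le hφ⟩ : X) ∈ Φ.subgroupOf X from hφ))
        ⟨x, hx⟩)).symm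
  have hcl : ⁅_root_.commutator X, (⊤ : Subgroup X)⁆ = ⊥ := by
    rw [commutator_eq_bot_iff_le_centralizer, _root_.commutator_def, commutator_le]
    intro a _ b _
    refine mem_centralizer_iff.2 fun c _ => Subtype.ext ?_
    exact (hcent _ (D.comm a a.2 b b.2) c c.2).symm
  -- exponent `p`
  set K := closure {x : X | x ^ p = 1} with hK
  have hKexp : ∀ y ∈ K, y ^ p = 1 := fun y hy => Cfsg.Lib.PGroups.pow_eq_one_of_mem_closure_class_two hp hp2 hcl hy
  have hKtop : K = ⊤ := by
    have hKn : X ⊔ T ≤ normalizer (K.map X.subtype : Set Y) := by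
      refine hXT.trans ?_
      haveI : K.Characteristic := by
        rw [characteristic_iff_map_le]
        intro φ
        rw [hK, MonoidHom.map_closure]
        refine closure_mono ?_
        rintro _ ⟨y, hy, rfl⟩
        show φ y ^ p = 1
        rw [← map_pow, show y ^ p = 1 from hy, map_one]
      exact Cfsg.Lib.OddP.le_normalizer_map_of_char _
    rcases D.irr _ (map_subtype_le K) hKn with h | h
    · exact Subgroup.map_injective X.subtype_injective (by rw [h, ← MonoidHom.range_eq_map, range_subtype])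
    exfalso
    have hcyc : IsCyclic X := by
      refine (Cfsg.Lib.UniqueSub.isCyclic_or_quaternion hXp fun x y hx hy => ?_).resolve_right fun e => hp2 e.1
      have hxK : x ∈ K := Subgroup.subset_closure (show x ^ p = 1 by rw [← hx, pow_orderOf_eq_one])
      have hyK : y ∈ K := Subgroup.subset_closure (show y ^ p = 1 by rw [← hy, pow_orderOf_eq_one])
      have hKc : Nat.card K ≤ p := by
        rw [← card_map_of_injective X.subtype_injective (K := K)]
        exact (Subgroup.card_le_of_le h).trans (by rw [hi]; exact (Nat.pow_le_pow_right hp.pos hi1).trans (pow_one p).le)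
      have e : zpowers x = K := eq_of_le_of_card_ge (zpowers_le.2 hxK) (by rw [Nat.card_zpowers, hx]; exact hKc)
      rw [e]; exact hyK
    have h1 := D.trivial_of_cyclic (X ⊔ T).subtype fun Q hQ _ => by
      rw [subgroupOf_map_subtype, inf_eq_left.2 le_sup_left] at hQ
      exact isCyclic_of_le hQ hcyc
    refine D.ne_bot hp ((Subgroup.eq_bot_iff_forall _).2 fun x hx => ?_)
    exact MonoidHom.mem_ker.1 (h1 (show (⟨x, mem_sup_left hx⟩ : ↥(X ⊔ T)) ∈ X.subgroupOf (X ⊔ T) from hx))
  have hexp : ∀ x ∈ X, x ^ p = 1 := fun x hx =>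
    congrArg Subtype.val (hKexp ⟨x, hx⟩ (hKtop ▸ mem_top _))
  refine ⟨hexp, ?_⟩
  set N := P ⊓ normalizer (X : Set Y) with hN
  have hXN : X ≤ N := le_inf hXP le_normalizer
  have hcomN : ⁅N, X⁆ ≤ Φ := by
    have hle : ⁅N, X⁆ ≤ X := commutator_le.2 fun n hn x hx => by
      rw [commutatorElement_def]
      exact mul_mem ((mem_normalizer_iff.1 hn.2 x).1 hx) (Subgroup.inv_mem _ hx)
    have hTN : X ⊔ T ≤ normalizer (N : Set Y) := sup_le (hXN.trans le_normalizer)
      (Cfsg.Lib.Coprime.le_normalizer_inf hn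
        (D.norm.trans le_normalizer))
    have hnc : X ⊔ T ≤ normalizer ((⁅N, X⁆ : Subgroup Y) : Set Y) := by
      intro g hg
      refine Cfsg.Lib.Coprime.conjMap_eq_self_iff.1 ?_
      show (⁅N, X⁆ : Subgroup Y).map _ = _
      rw [map_commutator]
      rw [show N.map (MulAut.conj g).toMonoidHom = N from Cfsg.Lib.Coprime.conjMap_eq_self_iff.2 (hTN hg),
        show X.map (MulAut.conj g).toMonoidHom = X from Cfsg.Lib.Coprime.conjMap_eq_self_iff.2 (hXT hg)]
    rcases D.irr _ hle hnc with h | h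
    · exfalso
      have key : ∀ m, X ≤ N.lowerCentralSeries m := by
        intro m
        induction m with
        | zero => exact hXN
        | succ m ih =>
          rw [Subgroup.lowerCentralSeries_succ]
          refine le_trans ?_ (commutator_mono ih le_rfl)
          rw [commutator_comm X N, h]
      obtain ⟨m, hm⟩ := (Subgroup.isNilpotent_iff_lowerCentralSeries N).1 (hP.to_le inf_le_left).isNilpotent
      exact D.ne_bot hp (le_bot_iff.1 ((key m).trans hm.le))
    · exact h
  have hcore : ∀ n ∈ N, n ^ p = 1 → n ∈ X := by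
    intro n hn hnp
    by_contra hnX
    have hcom : ∀ x ∈ X, n * x * n⁻¹ * x⁻¹ ∈ Φ := fun x hx => hcomN (commutator_mem_commutator hn hx)
    by_cases hXc : ∀ a ∈ X, ∀ b ∈ X, a * b = b * a
    · rcases (show i = 0 ∨ i = 1 by omega) with rfl | rfl
      · rw [pow_zero, card_eq_one] at hi
        refine false_of_three hr hXP hXc hexp (by rw [hcardX, pow_zero, one_mul]) hn.1 hnp hnX fun x hx => ?_
        have h := hcom x hx
        rw [hi, mem_bot, mul_inv_eq_one, mul_inv_eq_iff_eq_mul] at h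
        exact h.symm
      · haveI : IsMulCommutative X := ⟨⟨fun a b => Subtype.ext (hXc a a.2 b b.2)⟩⟩
        exact Cfsg.Lib.OddLocal.Uniqueness.not_pRankLE_of (p := p) (k := 2) ⟨inferInstance, hexp⟩ hXP
          (by rw [hcardX, ← pow_add]) hr
    push Not at hXc
    obtain ⟨a, ha, b, hb, hab⟩ := hXc
    set z := a * b * a⁻¹ * b⁻¹ with hz
    have hz1 : z ≠ 1 := fun h => hab (by rwa [hz, mul_inv_eq_one, mul_inv_eq_iff_eq_mul] at h)
    have hzΦ : z ∈ Φ := D.comm a ha b hb
    obtain rfl : i = 1 := by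
      rcases (show i = 0 ∨ i = 1 by omega) with rfl | rfl
      · rw [pow_zero, card_eq_one] at hi
        rw [hi, mem_bot] at hzΦ
        exact absurd hzΦ hz1
      · rfl
    have hΦz : zpowers z = Φ := by
      refine eq_of_le_of_card_ge (zpowers_le.2 hzΦ) ?_
      rw [hi, pow_one, Nat.card_zpowers, orderOf_eq_prime (hexp z (D.le hzΦ)) hz1]
    have hzc : ∀ x ∈ X, x * z = z * x := fun x hx => (hcent z hzΦ x hx).symm
    obtain ⟨s, hs⟩ := mem_zpowers_iff.1 (hΦz ▸ hcom a ha)
    obtain ⟨t, ht⟩ := mem_zpowers_iff.1 (hΦz ▸ hcom b hb)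
    have hna : n * a * n⁻¹ = z ^ s * a := by rw [hs]; group
    have hnb : n * b * n⁻¹ = z ^ t * b := by rw [ht]; group
    have hazc : Commute a z := hzc a ha
    have hbzc : Commute b z := hzc b hb
    have hconja : ∀ k : ℤ, a ^ k * b * (a ^ k)⁻¹ = z ^ k * b :=
      conj_zpow_eq (by rw [hz]; group) hazc
    have hconjb : ∀ k : ℤ, b ^ k * a * (b ^ k)⁻¹ = z ^ (-k) * a := fun k => by
      rw [← inv_zpow']
      exact conj_zpow_eq (by rw [hz]; group) hbzc.inv_right k
    set x0 := a ^ t * b ^ (-s) with hx0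
    have hx0X : x0 ∈ X := mul_mem (zpow_mem ha _) (zpow_mem hb _)
    have hx0a : x0 * a * x0⁻¹ = z ^ s * a := by
      rw [hx0, mul_inv_rev, show a ^ t * b ^ (-s) * a * ((b ^ (-s))⁻¹ * (a ^ t)⁻¹) =
        a ^ t * (b ^ (-s) * a * (b ^ (-s))⁻¹) * (a ^ t)⁻¹ by group, hconjb, neg_neg, ← mul_assoc,
        ((hazc.zpow_left t).zpow_right s).eq, mul_assoc (z ^ s), (Commute.zpow_self a t).eq, ← mul_assoc,
        mul_inv_cancel_right]
    have hx0b : x0 * b * x0⁻¹ = z ^ t * b := by
      rw [hx0, mul_inv_rev, show a ^ t * b ^ (-s) * b * ((b ^ (-s))⁻¹ * (a ^ t)⁻¹) =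
        a ^ t * b * (a ^ t)⁻¹ by group, hconja]
    set c := x0⁻¹ * n with hc
    have hca : c * a * c⁻¹ = a := by
      rw [hc, show x0⁻¹ * n * a * (x0⁻¹ * n)⁻¹ = x0⁻¹ * (n * a * n⁻¹) * x0 by group, hna, ← hx0a]
      group
    have hcb : c * b * c⁻¹ = b := by
      rw [hc, show x0⁻¹ * n * b * (x0⁻¹ * n)⁻¹ = x0⁻¹ * (n * b * n⁻¹) * x0 by group, hnb, ← hx0b]
      group
    have hcz : c * z = z * c := by
      rw [← mul_inv_eq_iff_eq_mul]
      calc c * z * c⁻¹ = (c * a * c⁻¹) * (c * b * c⁻¹) * (c * a * c⁻¹)⁻¹ * (c * b * c⁻¹)⁻¹ := by rw [hz]; group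
        _ = z := by rw [hca, hcb]
    -- `⟨a, z⟩` is elementary of order `p ^ 2`
    set A := closure ({a, z} : Set Y) with hA
    have hAX : A ≤ X := (closure_le _).2 (Set.insert_subset ha (Set.singleton_subset_iff.2 (D.le hzΦ)))
    haveI hAc : IsMulCommutative A := isMulCommutative_closure (by
      rintro u (rfl | rfl) v (rfl | rfl)
      exacts [rfl, hazc.eq, hazc.eq.symm, rfl])
    have hA2 : p ^ 2 ≤ Nat.card A := by
      have haΦ : a ∉ Φ := fun h => hab (hcent a h b hb)
      have h1 : Φ ≤ A := by rw [← hΦz]; exact zpowers_le.2 (Subgroup.subset_closure (Or.inr rfl))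
      obtain ⟨j, hj⟩ := (hXp.to_le hAX).exists_card_eq
      rw [hj]
      refine Nat.pow_le_pow_right hp.pos ?_
      by_contra hlt
      exact haΦ ((eq_of_le_of_card_ge h1 (by
        rw [hj, hi]; exact Nat.pow_le_pow_right hp.pos (by omega))).ge (Subgroup.subset_closure (Or.inl rfl)))
    have hccomm : ∀ u ∈ A, u * c = c * u := fun u hu => by
      induction hu using closure_induction with
      | mem u hu =>
        rcases hu with rfl | rfl
        exacts [(mul_inv_eq_iff_eq_mul.1 hca).symm, hcz.symm]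
      | one => rw [one_mul, mul_one]
      | mul u v _ _ hu hv => exact ((show Commute u c from hu).mul_left hv).eq
      | inv u _ hu => exact ((show Commute u c from hu).inv_left).eq
    have hcP : c ∈ P := mul_mem (Subgroup.inv_mem _ (hXP hx0X)) hn.1
    have hcp : c ^ p = 1 := by
      have hcX : ∀ x ∈ closure ({a, b} : Set Y), x * c = c * x := fun x hx => by
        induction hx using closure_induction with
        | mem u hu =>
          rcases hu with rfl | rfl
          exacts [(mul_inv_eq_iff_eq_mul.1 hca).symm, (mul_inv_eq_iff_eq_mul.1 hcb).symm]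
        | one => rw [one_mul, mul_one]
        | mul u v _ _ hu hv => exact ((show Commute u c from hu).mul_left hv).eq
        | inv u _ hu => exact ((show Commute u c from hu).inv_left).eq
      have hx0c : Commute x0 c := hcX x0 (mul_mem (zpow_mem (Subgroup.subset_closure (show a ∈ ({a, b} : Set Y) from Or.inl rfl)) _)
        (zpow_mem (Subgroup.subset_closure (show b ∈ ({a, b} : Set Y) from Or.inr rfl)) _))
      have h1 := hx0c.mul_pow p
      rw [show x0 * c = n by rw [hc]; group, hnp, hexp x0 hx0X, one_mul] at h1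
      exact h1.symm
    by_cases hcA : c ∈ A
    · exact hnX (by rw [show n = x0 * c by rw [hc]; group]; exact mul_mem hx0X (hAX hcA))
    · exact false_of_three hr (hAX.trans hXP)
        (fun u hu v hv => congrArg Subtype.val (hAc.is_comm.comm ⟨u, hu⟩ ⟨v, hv⟩))
        (fun u hu => hexp u (hAX hu)) hA2 hcP hcp hcA hccomm
  -- `N = P`
  have hNP : N = P := by
    by_contra hne
    haveI := hP.isNilpotent
    have hlt : N.subgroupOf P < ⊤ := lt_top_iff_ne_top.2 fun e =>
      hne (le_antisymm inf_le_left (subgroupOf_eq_top.1 e))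
    obtain ⟨g, hg, hgN⟩ := SetLike.exists_of_lt (Group.normalizerCondition_of_isNilpotent (N.subgroupOf P) hlt)
    refine hgN (mem_subgroupOf.2 ⟨g.2, ?_⟩)
    have hle : X.map (MulAut.conj (g : Y)).toMonoidHom ≤ X := by
      rintro _ ⟨x, hx, rfl⟩
      refine hcore _ ?_ (by rw [← map_pow, hexp x hx, map_one])
      exact mem_subgroupOf.1 ((mem_normalizer_iff.1 hg ⟨x, hXP hx⟩).1 (mem_subgroupOf.2 (hXN hx)))
    refine Cfsg.Lib.Coprime.conjMap_eq_self_iff.1 ?_
    exact eq_of_le_of_card_ge hle (card_map_of_injective (MulAut.conj (g : Y)).injective).ge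
  exact fun x hx hxp => hcore x (hNP.symm ▸ hx) hxp

end Cfsg.Lib.QTSolUniq
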