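import Cfsg.Agent.QTKE.SolUniq.PTools

/-!
The Sylow `p`-subgroups of the configuration have exponent `p`.
-/

set_option autoImplicit false
set_option linter.unusedSectionVars false
set_option linter.style.haveILetI false

namespace Cfsg.Lib.QTSolUniq

open Subgroup
open scoped commutatorElement

universe u

variable {Y : Type u} [Group Y] [Finite Y] {p : ℕ} [Fact p.Prime] {X T Φ : Subgroup Y}

theorem XData.card_inf (D : XData p X T Φ) {P : Subgroup Y} (hP : IsPGroup p P) :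
    Nat.card (P ⊓ Φ : Subgroup Y) ≤ p := by
  have hp : p.Prime := Fact.out
  obtain ⟨j, hj⟩ := (hP.to_le (inf_le_left : P ⊓ Φ ≤ P)).exists_card_eq
  rw [hj]
  refine (Nat.pow_le_pow_right hp.pos ?_).trans (pow_one p).le
  by_contra hlt
  apply D.small
  have h := relIndex_mul_relIndex ⊥ Φ X bot_le D.le
  rw [relIndex_bot_left, relIndex_bot_left, D.index] at h
  rw [← h, show p ^ 4 = p ^ 2 * p ^ 2 by rw [← pow_add]]
  exact Nat.mul_dvd_mul_right ((pow_dvd_pow p (by omega : 2 ≤ j)).trans (hj ▸ card_dvd_of_le inf_le_right)) _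

/-- some element of order `p` of `X` lies outside `Φ` -/
theorem XData.exists_elem (D : XData p X T Φ) (hp2 : p ≠ 2) : ∃ x ∈ X, x ^ p = 1 ∧ x ∉ Φ := by
  have hp : p.Prime := Fact.out
  by_contra hno
  push Not at hno
  have h1 := D.trivial_of_cyclic (X ⊔ T).subtype fun P hP hPp => by
    rw [subgroupOf_map_subtype, inf_eq_left.2 le_sup_left] at hP
    refine (Cfsg.Lib.UniqueSub.isCyclic_or_quaternion hPp fun a b ha hb => ?_).resolve_right fun e => hp2 e.1
    have hmem : ∀ c : P, c ^ p = 1 → (c : Y) ∈ P ⊓ Φ := fun c hc =>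
      ⟨c.2, hno c (hP c.2) (by rw [← SubgroupClass.coe_pow, hc, OneMemClass.coe_one])⟩
    have e : zpowers (a : Y) = P ⊓ Φ := eq_of_le_of_card_ge
      (zpowers_le.2 (hmem a (by rw [← ha, pow_orderOf_eq_one])))
      ((D.card_inf hPp).trans (by rw [Nat.card_zpowers, orderOf_coe, ha]))
    obtain ⟨m, hm⟩ := mem_zpowers_iff.1 (e.ge (hmem b (by rw [← hb, pow_orderOf_eq_one])))
    exact mem_zpowers_iff.2 ⟨m, Subtype.ext (by simpa using hm)⟩
  refine D.ne_bot hp ((Subgroup.eq_bot_iff_forall _).2 fun x hx => ?_)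
  exact MonoidHom.mem_ker.1 (h1 (show (⟨x, mem_sup_left hx⟩ : ↥(X ⊔ T)) ∈ X.subgroupOf (X ⊔ T) from hx))

/-- a Sylow subgroup of `X`: exponent `p`, order `p ^ 2` over its meet with `Φ`, and its conjugates hold every
`p`-element -/
theorem XData.exists_sylow (D : XData p X T Φ) (hp2 : p ≠ 2) :
    ∃ P : Subgroup Y, P ≤ X ∧ IsPGroup p P ∧ (∀ x ∈ P, x ^ p = 1) ∧
      Nat.card P = p ^ 2 * Nat.card (P ⊓ Φ : Subgroup Y) ∧
      ∀ x ∈ X, ∀ k, x ^ p ^ k = 1 → ∃ g ∈ X, g * x * g⁻¹ ∈ P := by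
  classical
  have hp : p.Prime := Fact.out
  haveI hΦn : (Φ.subgroupOf X).Normal := normal_subgroupOf_of_le_normalizer (le_sup_left.trans D.phi_norm)
  set q := QuotientGroup.mk' (Φ.subgroupOf X) with hq
  have hqs : Function.Surjective q := QuotientGroup.mk'_surjective _
  have hqc : Nat.card (X ⧸ Φ.subgroupOf X) = p ^ 2 := by
    rw [← index_eq_card]; exact D.index
  haveI hQc : IsMulCommutative (X ⧸ Φ.subgroupOf X) :=
    IsPGroup.isMulCommutative_of_card_eq_prime_sq hqc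
  obtain ⟨S⟩ := (inferInstance : Nonempty (Sylow p X))
  set P := (S : Subgroup X).map X.subtype with hPdef
  have hPX : P ≤ X := map_subtype_le _
  have hPp : IsPGroup p P := S.2.map _
  have hSq : (S : Subgroup X).map q = ⊤ :=
    ((S.mapSurjective hqs).3 (Q := (⊤ : Subgroup (X ⧸ Φ.subgroupOf X)))
      ((IsPGroup.of_card hqc).to_subgroup ⊤) le_top).symm.trans rfl
  have hconj : ∀ x ∈ X, ∀ k, x ^ p ^ k = 1 → ∃ g ∈ X, g * x * g⁻¹ ∈ P := by
    intro x hx k hk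
    have hz : IsPGroup p (zpowers (⟨x, hx⟩ : X)) := by
      rintro ⟨_, m, rfl⟩
      refine ⟨k, Subtype.ext (Subtype.ext ?_)⟩
      show (x ^ m) ^ p ^ k = 1
      rw [← zpow_natCast, ← zpow_mul, mul_comm, zpow_mul, zpow_natCast, hk, one_zpow]
    obtain ⟨S', hS'⟩ := hz.exists_le_sylow
    obtain ⟨g, rfl⟩ := MulAction.exists_smul_eq X S S'
    refine ⟨(g : Y)⁻¹, Subgroup.inv_mem _ g.2, ⟨g⁻¹ * ⟨x, hx⟩ * g, ?_, by simp⟩⟩
    have h1 : (⟨x, hx⟩ : X) ∈ ((g • S : Sylow p X) : Subgroup X) := hS' (mem_zpowers _)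
    rw [Sylow.coe_subgroup_smul, mem_pointwise_smul_iff_inv_smul_mem, MulAut.smul_def,
      MulAut.inv_apply, MulAut.conj_symm_apply] at h1
    exact h1
  have hcard : Nat.card P = p ^ 2 * Nat.card (P ⊓ Φ : Subgroup Y) := by
    have h1 : (Φ.subgroupOf X).relIndex (S : Subgroup X) = p ^ 2 := by
      have := relIndex_ker (f := q) (K := (S : Subgroup X))
      rw [QuotientGroup.ker_mk', hSq, card_top, hqc] at this
      exact this
    have h2 : Φ.relIndex P = p ^ 2 := by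
      rw [← h1, hPdef, ← map_subgroupOf_eq_of_le D.le, relIndex_map_map_of_injective _ _ X.subtype_injective,
        subgroupOf_map_subtype, inf_eq_left.2 D.le]
    have h3 := relIndex_mul_relIndex ⊥ (P ⊓ Φ) P bot_le inf_le_left
    rw [relIndex_bot_left, relIndex_bot_left, inf_relIndex_left, h2] at h3
    rw [← h3, mul_comm]
  refine ⟨P, hPX, hPp, ?_, hcard, hconj⟩
  -- class two
  have hcl : ⁅_root_.commutator P, (⊤ : Subgroup P)⁆ = ⊥ := by
    haveI : ((P ⊓ Φ).subgroupOf P).Normal := normal_subgroupOf_of_le_normalizer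
      (Cfsg.Lib.Coprime.le_normalizer_inf le_normalizer ((hPX.trans le_sup_left).trans D.phi_norm))
    obtain ⟨j, hj⟩ := (hPp.to_subgroup ((P ⊓ Φ).subgroupOf P)).exists_card_eq
    have hj1 : j ≤ 1 := by
      by_contra hlt
      have := D.card_inf hPp
      rw [← Nat.card_congr (subgroupOfEquivOfLe (inf_le_left : P ⊓ Φ ≤ P)).toEquiv, hj] at this
      exact absurd this (_root_.not_le.2 ((pow_one p).symm.le.trans_lt (Nat.pow_lt_pow_right hp.one_lt (by omega))))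
    have hz : (P ⊓ Φ).subgroupOf P ≤ center P := by
      rcases (show j = 0 ∨ j = 1 by omega) with rfl | rfl
      · rw [pow_zero, card_eq_one] at hj; rw [hj]; exact bot_le
      · exact Cfsg.Lib.PGroups.le_center_of_card_eq_prime hPp (by rw [hj, pow_one])
    rw [commutator_top_right_eq_bot_iff_le_center, _root_.commutator_def, commutator_le]
    intro a _ b _
    exact hz ⟨(⁅a, b⁆ : P).2, D.comm a (hPX a.2) b (hPX b.2)⟩
  set O := closure {a : P | a ^ p = 1} with hO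
  set X1 := closure {x | x ∈ X ∧ x ^ p = 1} ⊔ Φ with hX1
  have hX1le : X1 ≤ X := sup_le ((closure_le _).2 fun x hx => hx.1) D.le
  have hX1top : X1 = X := by
    refine (D.irr X1 hX1le (Cfsg.Lib.Coprime.le_normalizer_sup (fun g hg => ?_) D.phi_norm)).resolve_right
      fun h => ?_
    · have hgX : g ∈ normalizer (X : Set Y) := (sup_le le_normalizer D.norm : X ⊔ T ≤ _) hg
      refine Cfsg.Lib.Coprime.conjMap_eq_self_iff.1 ?_
      rw [Cfsg.Lib.Coprime.conjMap, MonoidHom.map_closure]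
      congr 1
      ext y
      constructor
      · rintro ⟨x, ⟨hx, hxp⟩, rfl⟩
        exact ⟨(mem_normalizer_iff.1 hgX x).1 hx, by rw [← map_pow, hxp, map_one]⟩
      · rintro ⟨hy, hyp⟩
        refine ⟨g⁻¹ * y * g, ⟨(mem_normalizer_iff''.1 hgX y).1 hy, ?_⟩, by simp [mul_assoc]⟩
        rw [show (g⁻¹ * y * g) ^ p = g⁻¹ * y ^ p * g by
          simpa using (map_pow (MulAut.conj g⁻¹) y p).symm, hyp]
        group
    · obtain ⟨x, hx, hxp, hxΦ⟩ := D.exists_elem hp2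
      exact hxΦ (h (mem_sup_left (Subgroup.subset_closure ⟨hx, hxp⟩)))
  have hOq : ∀ x ∈ X1, ∀ hx : x ∈ X, q ⟨x, hx⟩ ∈ (O.map (inclusion hPX)).map q := by
    intro x hx hxX
    have hle : X1 ≤ (((O.map (inclusion hPX)).map q).comap q).map X.subtype := by
      refine sup_le ((closure_le _).2 ?_) fun y hy => ⟨⟨y, D.le hy⟩, ?_, rfl⟩
      · rintro y ⟨hy, hyp⟩
        obtain ⟨g, hg, hgy⟩ := hconj y hy 1 (by rwa [pow_one])
        refine ⟨⟨y, hy⟩, ⟨⟨g * y * g⁻¹, hPX hgy⟩, ⟨⟨_, hgy⟩, Subgroup.subset_closure ?_, Subtype.ext rfl⟩, ?_⟩, rfl⟩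
        · refine Subtype.ext ?_
          show (g * y * g⁻¹) ^ p = 1
          rw [conj_pow, hyp]; group
        · rw [show (⟨g * y * g⁻¹, hPX hgy⟩ : X) = ⟨g, hg⟩ * ⟨y, hy⟩ * ⟨g, hg⟩⁻¹ from rfl, map_mul, map_mul,
            map_inv, mul_comm' (q ⟨g, hg⟩), mul_inv_cancel_right]
      · show q ⟨y, D.le hy⟩ ∈ (O.map (inclusion hPX)).map q
        rw [show q ⟨y, D.le hy⟩ = 1 from (QuotientGroup.eq_one_iff _).2 hy]
        exact one_mem _
    obtain ⟨y, hy, e⟩ := hle hx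
    rwa [show y = ⟨x, hxX⟩ from Subtype.ext e] at hy
  have hOexp : ∀ a ∈ O, a ^ p = 1 := fun a ha =>
    Cfsg.Lib.PGroups.pow_eq_one_of_mem_closure_class_two hp hp2 hcl ha
  intro x hx
  obtain ⟨_, ⟨w, hw, rfl⟩, e⟩ := hOq x (hX1top ▸ hPX hx) (hPX hx)
  have hd : (w : Y)⁻¹ * x ∈ P ⊓ Φ := ⟨mul_mem (Subgroup.inv_mem _ w.2) hx, (QuotientGroup.eq (s := Φ.subgroupOf X)).1 e⟩
  have hdp : ((w : Y)⁻¹ * x) ^ p = 1 := by
    have h1 := orderOf_dvd_natCard (⟨_, hd⟩ : (P ⊓ Φ : Subgroup Y))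
    rw [orderOf_mk] at h1
    refine orderOf_dvd_iff_pow_eq_one.1 ?_
    obtain ⟨j, hj⟩ := (hPp.to_le (inf_le_left : P ⊓ Φ ≤ P)).exists_card_eq
    have hj1 : j ≤ 1 := (Nat.pow_le_pow_iff_right hp.one_lt).1 (by rw [pow_one, ← hj]; exact D.card_inf hPp)
    exact h1.trans (hj ▸ (pow_dvd_pow p hj1).trans (pow_one p).dvd)
  have h2 : (⟨x, hx⟩ : P) ∈ O := by
    have h3 : (⟨(w : Y)⁻¹ * x, hd.1⟩ : P) ∈ O := Subgroup.subset_closure (Subtype.ext hdp)
    have := mul_mem hw h3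
    rwa [show w * (⟨(w : Y)⁻¹ * x, hd.1⟩ : P) = ⟨x, hx⟩ from Subtype.ext (mul_inv_cancel_left _ _)] at this
  exact congrArg Subtype.val (hOexp _ h2)

end Cfsg.Lib.QTSolUniq
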