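import Cfsg.Agent.QTKE.SolUniq.Omega
import Cfsg.Agent.SolvStruct.PGroupBasics

/-!
Noncyclic `p`-groups of odd order: a characteristic subgroup of exponent `p` and order at least `p ^ 2`;
normal subgroups of order `p ^ 2`.
-/

set_option autoImplicit false
set_option linter.unusedSectionVars false
set_option linter.style.haveILetI false

namespace Cfsg.Lib.QTSolUniq

open Subgroup
open scoped commutatorElement

universe u

variable {P : Type u} [Group P] [Finite P] {p : ℕ} [Fact p.Prime]

/-- commutators of a normal subgroup of order `p ^ 2` are central and take at most `p` values -/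
theorem commutator_normal_sq (hP : IsPGroup p P) (A : Subgroup P) [A.Normal] (hA : Nat.card A = p ^ 2) :
    ⁅A, (⊤ : Subgroup P)⁆ ≤ center P ∧ Nat.card ↥⁅A, (⊤ : Subgroup P)⁆ ≤ p := by
  have hp : p.Prime := Fact.out
  set C := ⁅A, (⊤ : Subgroup P)⁆ with hC
  have hCA : C ≤ A := commutator_le_left A ⊤
  have hne : C ≠ A := by
    intro h
    have key : ∀ m, A ≤ (⊤ : Subgroup P).lowerCentralSeries m := by
      intro m
      induction m with
      | zero => exact le_top
      | succ m ih =>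
        rw [Subgroup.lowerCentralSeries_succ, ← h, hC]
        exact commutator_mono ih le_rfl
    obtain ⟨m, hm⟩ := Subgroup.nilpotent_iff_lowerCentralSeries.1 hP.isNilpotent
    have h1 : A = ⊥ := le_bot_iff.1 ((key m).trans hm.le)
    rw [h1, card_bot] at hA
    exact (Nat.one_lt_pow two_ne_zero hp.one_lt).ne hA
  obtain ⟨j, hj⟩ := (hP.to_subgroup C).exists_card_eq
  have hjlt : j < 2 := by
    by_contra hlt
    exact hne (eq_of_le_of_card_ge hCA (by rw [hj, hA]; exact Nat.pow_le_pow_right hp.pos (by omega)))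
  refine ⟨?_, by rw [hj]; exact (Nat.pow_le_pow_right hp.pos (by omega : j ≤ 1)).trans (pow_one p).le⟩
  rcases (show j = 0 ∨ j = 1 by omega) with rfl | rfl
  · rw [pow_zero, card_eq_one] at hj
    rw [hj]; exact bot_le
  · exact Cfsg.Lib.PGroups.le_center_of_card_eq_prime hP (by rw [hj, pow_one])

/-- a noncyclic `p`-group has a characteristic subgroup of exponent `p` and order at least `p ^ 2` -/
theorem exists_exponent_noncyclic (hp2 : p ≠ 2) (hP : IsPGroup p P) (hnc : ¬ IsCyclic P) :
    ∃ D : Subgroup P, D.Characteristic ∧ (∀ x ∈ D, x ^ p = 1) ∧ p ^ 2 ≤ Nat.card D := by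
  have hp : p.Prime := Fact.out
  set M := Subgroup.upperCentralSeries P 2 with hM
  set D0 := closure {y : M | y ^ p = 1} with hD0
  have hcl : ⁅_root_.commutator M, (⊤ : Subgroup M)⁆ = ⊥ := by
    rw [commutator_eq_bot_iff_le_centralizer, _root_.commutator_def, commutator_le]
    intro a _ b _
    refine mem_centralizer_iff.2 fun c _ => Subtype.ext ?_
    have h1 : ⁅(a : P), (b : P)⁆ ∈ Subgroup.upperCentralSeries P 1 :=
      Subgroup.mem_upperCentralSeries_succ_iff.1 a.2 b
    rw [Subgroup.upperCentralSeries_one] at h1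
    exact mem_center_iff.1 h1 c
  refine ⟨D0.map M.subtype, ?_, ?_, ?_⟩
  · rw [characteristic_iff_map_le]
    intro φ
    haveI hMc : M.Characteristic := inferInstance
    rw [Subgroup.map_map, hD0, MonoidHom.map_closure]
    refine (closure_le _).2 ?_
    rintro _ ⟨y, hy, rfl⟩
    have hφy : φ (y : P) ∈ M := (characteristic_iff_map_le.1 hMc φ) (mem_map_of_mem _ y.2)
    refine ⟨⟨φ (y : P), hφy⟩, Subgroup.subset_closure ?_, rfl⟩
    refine Subtype.ext ?_
    show φ (y : P) ^ p = 1
    rw [← map_pow, show (y : P) ^ p = 1 from congrArg Subtype.val (hy : y ^ p = 1), map_one]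
  · rintro _ ⟨y, hy, rfl⟩
    rw [← map_pow, Cfsg.Lib.PGroups.pow_eq_one_of_mem_closure_class_two hp hp2 hcl hy, map_one]
  · obtain ⟨A, hAn, hAe, hA⟩ := Cfsg.Lib.SolvStruct.exists_normal_elementary_sq hp2 hP hnc
    haveI := hAn
    rw [← hA]
    refine Subgroup.card_le_of_le fun a ha => ?_
    have haM : a ∈ M := by
      refine Subgroup.mem_upperCentralSeries_succ_iff.2 fun y => ?_
      rw [Subgroup.upperCentralSeries_one]
      exact (commutator_normal_sq hP A hA).1 (commutator_mem_commutator ha (mem_top y))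
    exact ⟨⟨a, haM⟩, Subgroup.subset_closure (show (⟨a, haM⟩ : M) ^ p = 1 from Subtype.ext (hAe.2 a ha)), rfl⟩

/-- a normal subgroup of exponent `p` and order at least `p ^ 2` holds a normal one of order `p ^ 2` -/
theorem exists_normal_sq_le (hP : IsPGroup p P) (K : Subgroup P) [K.Normal] (hK : p ^ 2 ≤ Nat.card K)
    (hexp : ∀ x ∈ K, x ^ p = 1) :
    ∃ A : Subgroup P, A.Normal ∧ A ≤ K ∧ Cfsg.IsElementaryAbelian p A ∧ Nat.card A = p ^ 2 := by
  have hp : p.Prime := Fact.out
  have h2 : 1 < Nat.card K := lt_of_lt_of_le (Nat.one_lt_pow two_ne_zero hp.one_lt) hK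
  obtain ⟨A1, hA1, -, hA1K, hi1⟩ := Cfsg.Lib.PGroups.exists_normal_relIndex_prime hP (N := ⊥) (M := K)
    (bot_lt_iff_ne_bot.2 fun e => by rw [e, card_bot] at h2; exact lt_irrefl _ h2)
  rw [relIndex_bot_left] at hi1
  haveI := hA1
  have hlt : A1 < K := hA1K.lt_of_ne fun e => by
    rw [← e, hi1] at hK
    exact absurd hK (_root_.not_le.2 (by nlinarith [hp.two_le]))
  obtain ⟨A2, hA2, h12, hA2K, hi2⟩ := Cfsg.Lib.PGroups.exists_normal_relIndex_prime hP hlt
  have hc : Nat.card A2 = p ^ 2 := by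
    have := relIndex_mul_relIndex (⊥ : Subgroup P) A1 A2 bot_le h12
    rw [relIndex_bot_left, relIndex_bot_left, hi1, hi2] at this
    rw [← this, sq]
  exact ⟨A2, hA2, hA2K, ⟨IsPGroup.isMulCommutative_of_card_eq_prime_sq hc, fun x hx => hexp x (hA2K hx)⟩, hc⟩

/-- a noncyclic group of exponent `p` has a commutative subgroup of order `p ^ 2` -/
theorem exists_commutative_sq {Y : Type u} [Group Y] [Finite Y] {D : Subgroup Y}
    (hexp : ∀ x ∈ D, x ^ p = 1) (hD : p ^ 2 ≤ Nat.card D) :
    ∃ A ≤ D, Nat.card A = p ^ 2 ∧ ∀ a ∈ A, ∀ b ∈ A, a * b = b * a := by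
  have hp : p.Prime := Fact.out
  obtain ⟨k, hk⟩ := (show IsPGroup p D from fun x => ⟨1, Subtype.ext (by
    rw [pow_one]; exact hexp x x.2)⟩).exists_card_eq
  have h2 : 2 ≤ k := (Nat.pow_le_pow_iff_right hp.one_lt).1 (hk ▸ hD)
  obtain ⟨A, hA⟩ := Sylow.exists_subgroup_card_pow_prime (G := D) p (n := 2) (hk ▸ pow_dvd_pow p h2)
  refine ⟨A.map D.subtype, map_subtype_le A, by rw [card_map_of_injective D.subtype_injective, hA], ?_⟩
  rintro _ ⟨a, ha, rfl⟩ _ ⟨b, hb, rfl⟩
  exact congrArg (fun z : A => ((z.1 : D) : Y))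
    ((IsPGroup.isMulCommutative_of_card_eq_prime_sq hA).is_comm.comm ⟨a, ha⟩ ⟨b, hb⟩)

/-- in a `p`-group, the centraliser of a normal subgroup of order `p ^ 2` has index at most `p` -/
theorem card_le_mul_centralizer (hP : IsPGroup p P) (A : Subgroup P) [A.Normal] (hA : Nat.card A = p ^ 2)
    (B : Subgroup P) : Nat.card B ≤ p * Nat.card (B ⊓ centralizer (A : Set P) : Subgroup P) := by
  classical
  have hp : p.Prime := Fact.out
  by_cases hAz : A ≤ center P
  · rw [inf_eq_left.2 fun b _ => mem_centralizer_iff.2 fun a ha => (mem_center_iff.1 (hAz ha) b).symm]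
    exact Nat.le_mul_of_pos_left _ hp.pos
  obtain ⟨a, ha, haz⟩ := SetLike.not_le_iff_exists.1 hAz
  obtain ⟨hC, hCc⟩ := commutator_normal_sq hP A hA
  set C := ⁅A, (⊤ : Subgroup P)⁆ with hCdef
  -- `A` is generated by `a` and its central part
  have hgen : ∀ x, x * a = a * x → x ∈ centralizer (A : Set P) := by
    intro x hx
    have hle : A ≤ (A ⊓ center P) ⊔ zpowers a := by
      haveI : Nontrivial A := Finite.one_lt_card_iff_nontrivial.1 (hA ▸ Nat.one_lt_pow two_ne_zero hp.one_lt)
      haveI := hP.isNilpotent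
      have hne : A ⊓ center P ≠ ⊥ := fun h => by
        have hC0 : C = ⊥ := le_bot_iff.1 (h ▸ le_inf (commutator_le_left A ⊤) hC)
        exact hAz (commutator_top_right_eq_bot_iff_le_center.1 hC0)
      obtain ⟨j, hj⟩ := (hP.to_subgroup (A ⊓ center P ⊔ zpowers a)).exists_card_eq
      have hle' : A ⊓ center P ⊔ zpowers a ≤ A := sup_le inf_le_left (zpowers_le.2 ha)
      refine le_of_eq (eq_of_le_of_card_ge hle' ?_).symm
      rw [hA, hj]
      refine Nat.pow_le_pow_right hp.pos ?_
      by_contra hlt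
      obtain ⟨i, hi⟩ := (hP.to_subgroup (A ⊓ center P)).exists_card_eq
      have hi0 : i ≠ 0 := fun h => hne (card_eq_one.1 (by rw [hi, h, pow_zero]))
      have hij : A ⊓ center P = A ⊓ center P ⊔ zpowers a :=
        eq_of_le_of_card_ge le_sup_left (by rw [hi, hj]; exact Nat.pow_le_pow_right hp.pos (by omega))
      exact haz (hij.ge (mem_sup_right (mem_zpowers a))).2
    refine mem_centralizer_iff.2 fun b hb => ?_
    have h1 : (A ⊓ center P) ⊔ zpowers a ≤ centralizer ({x} : Set P) := by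
      refine sup_le (fun b hb => mem_centralizer_singleton_iff.2 (mem_center_iff.1 hb.2 x).symm) ?_
      rw [zpowers_le, mem_centralizer_singleton_iff]
      exact hx.symm
    exact mem_centralizer_singleton_iff.1 (h1 (hle hb))
  set B0 := B ⊓ centralizer (A : Set P)
  let f : B ⧸ B0.subgroupOf B → C := fun q => ⟨⁅a, (q.out : P)⁆, commutator_mem_commutator ha (mem_top _)⟩
  have hf : Function.Injective f := by
    intro q r h
    rw [← q.out_eq', ← r.out_eq', QuotientGroup.eq]
    refine mem_subgroupOf.2 ⟨mul_mem (Subgroup.inv_mem _ q.out.2) r.out.2, hgen _ ?_⟩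
    have h1 : a * q.out * a⁻¹ * (q.out : P)⁻¹ = a * r.out * a⁻¹ * (r.out : P)⁻¹ := congrArg Subtype.val h
    have h2 : (q.out : P) * a⁻¹ * (q.out : P)⁻¹ = r.out * a⁻¹ * (r.out : P)⁻¹ := by
      simpa [mul_assoc] using h1
    have h3 : (r.out : P) * a * (r.out : P)⁻¹ = q.out * a * (q.out : P)⁻¹ := by
      have := congrArg Inv.inv h2.symm
      simpa [mul_assoc] using this
    show (q.out : P)⁻¹ * r.out * a = a * ((q.out : P)⁻¹ * r.out)
    calc (q.out : P)⁻¹ * r.out * a = (q.out : P)⁻¹ * (r.out * a * (r.out : P)⁻¹) * r.out := by group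
      _ = a * ((q.out : P)⁻¹ * r.out) := by rw [h3]; group
  have h1 := (Nat.card_le_card_of_injective f hf).trans hCc
  calc Nat.card B = Nat.card (B ⧸ B0.subgroupOf B) * Nat.card (B0.subgroupOf B) :=
        card_eq_card_quotient_mul_card_subgroup _
    _ ≤ p * Nat.card B0 := by
      rw [Nat.card_congr (subgroupOfEquivOfLe (inf_le_left : B0 ≤ B)).toEquiv]
      exact Nat.mul_le_mul_right _ h1

end Cfsg.Lib.QTSolUniq
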